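import Mathlib.RingTheory.LocalRing.ResidueField.Fiber
import Mathlib.RingTheory.Jacobson.Ring
import Mathlib.RingTheory.Ideal.MinimalPrime.Localization
import Mathlib.RingTheory.Artinian.Module
import Mathlib.RingTheory.Localization.Integral
import Mathlib.RingTheory.Algebraic.Integral
import Mathlib.RingTheory.FiniteStability

/-!
# Relations that survive making their coefficient ideal invertible
-/

set_option autoImplicit false
set_option linter.style.haveILetI false
set_option linter.unusedSectionVars false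

universe u

open scoped TensorProduct
open Polynomial

noncomputable section

namespace Groth.L23.HFlat

variable {A C : Type u} [CommRing A] [CommRing C] [Algebra A C]

theorem exists_poly_of_isMax [Algebra.FiniteType A C] (c₀ : PrimeSpectrum C)
    (hmax : ∀ c : PrimeSpectrum C, c₀ ≤ c → c.comap (algebraMap A C) = c₀.comap (algebraMap A C) → c = c₀) (t : C) :
    ∃ P : A[X], (∃ k, P.coeff k ∉ c₀.asIdeal.comap (algebraMap A C)) ∧ aeval t P ∈ c₀.asIdeal := by
  let p := c₀.comap (algebraMap A C)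
  let e := PrimeSpectrum.preimageOrderIsoFiber A C p
  let M := e ⟨c₀, rfl⟩
  haveI : M.asIdeal.IsMaximal := by
    refine PrimeSpectrum.isMax_iff.mp fun M' hle => ?_
    have h1 : (⟨c₀, rfl⟩ : PrimeSpectrum.comap (algebraMap A C) ⁻¹' {p}) ≤ e.symm M' := e.le_symm_apply.mpr hle
    have h2 := hmax (e.symm M').1 h1 (e.symm M').2
    exact (e.symm_apply_le.mp (le_of_eq (Subtype.ext h2)))
  let κ := p.asIdeal.ResidueField
  letI := Ideal.Quotient.field M.asIdeal
  haveI : Algebra.FiniteType κ (p.asIdeal.Fiber C) := inferInstance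
  haveI : Module.Finite κ (p.asIdeal.Fiber C ⧸ M.asIdeal) :=
    haveI : Algebra.FiniteType κ (p.asIdeal.Fiber C ⧸ M.asIdeal) :=
      Algebra.FiniteType.of_surjective (Ideal.Quotient.mkₐ κ M.asIdeal) (Ideal.Quotient.mkₐ_surjective _ _)
    finite_of_finite_type_of_isJacobsonRing κ _
  obtain ⟨Q, hQ0, hQ⟩ := IsAlgebraic.of_finite κ (Ideal.Quotient.mkₐ κ M.asIdeal (1 ⊗ₜ t))
  obtain ⟨P, hP⟩ := Polynomial.map_surjective _ Ideal.Quotient.mk_surjective
    (IsLocalization.integerNormalization (nonZeroDivisors (A ⧸ p.asIdeal)) Q)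
  obtain ⟨b, hbm, hb⟩ := IsLocalization.integerNormalization_spec (nonZeroDivisors (A ⧸ p.asIdeal)) Q
  have hPQ : P.map (algebraMap A κ) = b • Q := by
    rw [IsScalarTower.algebraMap_eq A (A ⧸ p.asIdeal) κ, ← Polynomial.map_map]
    erw [hP]
    exact hb
  refine ⟨P, ?_, ?_⟩
  · by_contra hc
    push Not at hc
    have h0 : P.map (algebraMap A κ) = 0 := Polynomial.ext fun k => by
      rw [coeff_map, coeff_zero]
      exact Ideal.algebraMap_residueField_eq_zero.mpr (hc k)
    rw [hPQ, ← algebraMap_smul κ b Q, smul_eq_C_mul, mul_eq_zero, C_eq_zero] at h0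
    rcases h0 with h0 | h0
    · exact nonZeroDivisors.ne_zero hbm (IsFractionRing.injective (A ⧸ p.asIdeal) κ (h0.trans (map_zero _).symm))
    · exact hQ0 h0
  · have h1 : aeval (Ideal.Quotient.mkₐ κ M.asIdeal (1 ⊗ₜ t)) (P.map (algebraMap A κ)) = 0 := by
      rw [hPQ, ← algebraMap_smul κ b Q, map_smul, hQ, smul_zero]
    rw [aeval_algHom_apply, aeval_map_algebraMap, Ideal.Quotient.mkₐ_eq_mk, Ideal.Quotient.eq_zero_iff_mem] at h1
    have h2 : aeval ((1 : κ) ⊗ₜ[A] t) P = 1 ⊗ₜ[A] aeval t P :=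
      aeval_algHom_apply (Algebra.TensorProduct.includeRight (R := A) (A := κ) (B := C)) t P
    rw [h2] at h1
    have h3 : c₀ = (e.symm M).1 := congrArg Subtype.val (e.symm_apply_apply ⟨c₀, rfl⟩).symm
    rw [h3]
    exact h1

theorem exists_div_poly (g : A) (hg : g ∈ nonZeroDivisors A) (P : A[X]) (I' : Ideal A)
    (h : Ideal.span (Set.range P.coeff) * I' = Ideal.span {g}) (x : Ideal A) [x.IsPrime] :
    ∃ (c : A) (Q : A[X]), (∃ k, Q.coeff k ∉ x) ∧ Polynomial.C g * Q = Polynomial.C c * P := by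
  by_contra hne
  push Not at hne
  have key : Ideal.span (Set.range P.coeff) * I' ≤ Ideal.span {g} * x := by
    refine Ideal.mul_le.mpr fun r hr c hc => ?_
    induction hr using Submodule.span_induction with
    | mem r hr =>
      obtain ⟨k, rfl⟩ := hr
      obtain ⟨Q, hQ⟩ : Polynomial.C g ∣ Polynomial.C c * P := by
        refine (Polynomial.C_dvd_iff_dvd_coeff _ _).mpr fun i => ?_
        rw [coeff_C_mul, ← Ideal.mem_span_singleton, ← h, mul_comm c]
        exact Ideal.mul_mem_mul (Ideal.subset_span ⟨i, rfl⟩) hc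
      have h1 := congrArg (coeff · k) hQ
      simp only [coeff_C_mul] at h1
      rw [mul_comm (P.coeff k), h1]
      refine Ideal.mul_mem_mul (Ideal.mem_span_singleton_self g) (of_not_not fun hk => ?_)
      exact hne c Q ⟨k, hk⟩ hQ.symm
    | zero => simp
    | add a b _ _ ha hb => rw [add_mul]; exact add_mem ha hb
    | smul a r _ hr => rw [smul_eq_mul, mul_assoc]; exact Ideal.mul_mem_left _ a hr
  rw [h, Ideal.span_singleton_le_iff_mem, Ideal.mem_span_singleton_mul] at key
  obtain ⟨r, hr, hgr⟩ := key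
  have h1 : (1 - r) * g = 0 := by rw [sub_mul, one_mul, mul_comm, hgr, sub_self]
  have h2 := hg.2 _ h1
  rw [sub_eq_zero] at h2
  exact Ideal.IsPrime.ne_top' ((Ideal.eq_top_iff_one _).mpr (h2 ▸ hr))

theorem finite_primes_of_relations (s : Set C) (hs : s.Finite) (hgen : Algebra.adjoin A s = ⊤)
    (x : PrimeSpectrum A) (Z : Set (PrimeSpectrum C)) (hZ : ∀ z ∈ Z, z.comap (algebraMap A C) = x)
    (hrel : ∀ t ∈ s, ∃ Q : A[X], (∃ k, Q.coeff k ∉ x.asIdeal) ∧ ∀ z ∈ Z, aeval t Q ∈ z.asIdeal) :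
    Z.Finite := by
  choose! Q hQ hQZ using hrel
  let I : Ideal C := Ideal.span ((fun t => aeval t (Q t)) '' s)
  let q := Ideal.Quotient.mkₐ A I
  have hgen' : Algebra.adjoin A (q '' s) = ⊤ := by
    rw [Algebra.adjoin_image, hgen, Algebra.map_top]
    exact (AlgHom.range_eq_top q).mpr (Ideal.Quotient.mkₐ_surjective _ _)
  let F := x.asIdeal.Fiber (C ⧸ I)
  haveI : Module.Finite x.asIdeal.ResidueField F := by
    have h := Algebra.finite_adjoin_of_finite_of_isIntegral (R := x.asIdeal.ResidueField)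
      (((hs.image q)).image fun y => ((1 : x.asIdeal.ResidueField) ⊗ₜ[A] y : F)) ?_
    · rw [Algebra.TensorProduct.adjoin_one_tmul_image_eq_top _ hgen'] at h
      exact Module.Finite.equiv Subalgebra.topEquiv.toLinearEquiv
    rintro _ ⟨_, ⟨t, ht, rfl⟩, rfl⟩
    refine IsAlgebraic.isIntegral ⟨(Q t).map (algebraMap A _), fun h0 => ?_, ?_⟩
    · obtain ⟨k, hk⟩ := hQ t ht
      exact hk (Ideal.algebraMap_residueField_eq_zero.mp (by simpa using congrArg (coeff · k) h0))
    · have h1 : aeval (q t) (Q t) = 0 := by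
        rw [aeval_algHom_apply]
        exact Ideal.Quotient.eq_zero_iff_mem.mpr (Ideal.subset_span ⟨t, ht, rfl⟩)
      rw [aeval_map_algebraMap]
      refine (aeval_algHom_apply (Algebra.TensorProduct.includeRight
        (R := A) (A := x.asIdeal.ResidueField) (B := C ⧸ I)) (q t) (Q t)).trans ?_
      rw [h1, map_zero]
  haveI : IsArtinianRing F := IsArtinianRing.of_finite x.asIdeal.ResidueField F
  haveI : Finite (PrimeSpectrum.comap (algebraMap A (C ⧸ I)) ⁻¹' {x} : Set _) :=
    Finite.of_equiv _ (PrimeSpectrum.preimageEquivFiber A (C ⧸ I) x).symm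
  refine ((Set.toFinite (PrimeSpectrum.comap (algebraMap A (C ⧸ I)) ⁻¹' {x})).image
    (PrimeSpectrum.comap (Ideal.Quotient.mk I))).subset fun z hz => ?_
  have hle : I ≤ z.asIdeal := Ideal.span_le.mpr (by rintro _ ⟨t, ht, rfl⟩; exact hQZ t ht z hz)
  obtain ⟨w, hw⟩ : z ∈ Set.range (PrimeSpectrum.comap (Ideal.Quotient.mk I)) := by
    rw [range_comap_of_surjective _ _ Ideal.Quotient.mk_surjective, Ideal.mk_ker]
    exact hle
  refine ⟨w, ?_, hw⟩
  rw [Set.mem_preimage, Set.mem_singleton_iff, ← hZ z hz, ← hw, ← PrimeSpectrum.comap_comp_apply]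
  rfl

end Groth.L23.HFlat

end
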