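import Groth.Agent.L23.HFlat.Finite
import Groth.Agent.L23.HFlat.Algebra
import Mathlib.AlgebraicGeometry.ZariskisMainTheorem
import Mathlib.AlgebraicGeometry.PullbackCarrier
import Mathlib.AlgebraicGeometry.IdealSheaf.Subscheme

/-!
# Proper surjective morphisms to Noetherian affine schemes are covering
-/

set_option autoImplicit false
set_option linter.style.haveILetI false
set_option linter.unusedSectionVars false
set_option backward.isDefEq.respectTransparency.types false

universe u

open CategoryTheory CategoryTheory.Limits AlgebraicGeometry TopologicalSpace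
open scoped TensorProduct

noncomputable section

namespace Groth.L23.HFlat

/-- The base change of an affine open chart, as an open subscheme of the base change. -/
theorem exists_chart {A C A₁ : Type u} [CommRing A] [CommRing C] [Algebra A C] [CommRing A₁] [Algebra A A₁]
    {Y : Scheme.{u}} (f : Y ⟶ Spec (CommRingCat.of A)) (j : Spec (CommRingCat.of C) ⟶ Y) [IsOpenImmersion j]
    (hj : j ≫ f = sMap (algebraMap A C)) :
    ∃ m : Spec (CommRingCat.of (A₁ ⊗[A] C)) ⟶ pullback f (sMap (algebraMap A A₁)), IsOpenImmersion m ∧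
      m ≫ pullback.snd _ _ = sMap (algebraMap A₁ (A₁ ⊗[A] C)) ∧
      m ≫ pullback.fst _ _ = sMap (Algebra.TensorProduct.includeRight (R := A) (A := A₁) (B := C)).toRingHom ≫ j ∧
      Set.range m = pullback.fst f (sMap (algebraMap A A₁)) ⁻¹' Set.range j := by
  let e := (pullbackSpecIso A A₁ C).symm ≪≫ pullbackSymmetry _ _
  let d := pullback.map (sMap (algebraMap A C)) (sMap (algebraMap A A₁)) f (sMap (algebraMap A A₁)) j (𝟙 _) (𝟙 _)
    (by rw [Category.comp_id, hj]) (by simp)
  refine ⟨e.hom ≫ d, inferInstance, ?_, ?_, ?_⟩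
  · simp only [e, d, Iso.trans_hom, Iso.symm_hom, Category.assoc]
    rw [pullback.map, pullback.lift_snd, Category.comp_id, pullbackSymmetry_hom_comp_snd, pullbackSpecIso_inv_fst']
  · simp only [e, d, Iso.trans_hom, Iso.symm_hom, Category.assoc]
    rw [pullback.map, pullback.lift_fst, pullbackSymmetry_hom_comp_fst_assoc, pullbackSpecIso_inv_snd_assoc]
    rfl
  · rw [Scheme.Hom.comp_base, TopCat.coe_comp, Set.range_comp, e.hom.surjective.range_eq, Set.image_univ,
      Scheme.Pullback.range_map]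
    simp

/-- A closed point of a fibre gives, on every chart, polynomial relations with a nonzero coefficient. -/
theorem exists_relation {A C : Type u} [CommRing A] [CommRing C] [Algebra A C] [Algebra.FiniteType A C]
    {Y : Scheme.{u}} (f : Y ⟶ Spec (CommRingCat.of A)) (j : Spec (CommRingCat.of C) ⟶ Y) [IsOpenImmersion j]
    (hj : j ≫ f = sMap (algebraMap A C)) (y : Y) (hy : ∀ w, y ⤳ w → f w = f y → w = y) (t : C) :
    ∃ P : Polynomial A, (∃ k, P.coeff k ∉ (f y).asIdeal) ∧
      ∀ c, y ⤳ j c → Polynomial.aeval t P ∈ c.asIdeal := by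
  have hfj : ∀ c, f (j c) = PrimeSpectrum.comap (algebraMap A C) c := fun c => by
    rw [← Scheme.Hom.comp_apply, hj]; rfl
  by_cases hyj : y ∈ Set.range j
  · obtain ⟨c₀, rfl⟩ := hyj
    obtain ⟨P, hP, hPt⟩ := exists_poly_of_isMax c₀ (fun c hle he => j.isOpenEmbedding.injective
      (hy _ (((PrimeSpectrum.le_iff_specializes _ _).mp hle).map j.continuous)
        (by rw [hfj, hfj, he]))) t
    refine ⟨P, ?_, fun c hc => ?_⟩
    · rw [hfj]; exact hP
    · exact ((PrimeSpectrum.le_iff_specializes _ _).mpr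
        (j.isOpenEmbedding.isInducing.specializes_iff.mp hc)) hPt
  · refine ⟨1, ⟨0, ?_⟩, fun c hc => absurd (hc.mem_open j.isOpenEmbedding.isOpen_range ⟨c, rfl⟩) hyj⟩
    rw [Polynomial.coeff_one_zero]
    exact (Ideal.ne_top_iff_one _).mp (f y).isPrime.ne_top

variable {K : GrothendieckTopology Scheme.{u}} (hK : Hyp K)
include hK

theorem Hyp.mem_proper {A : Type u} [CommRing A] [IsNoetherianRing A] {Y : Scheme.{u}}
    (f : Y ⟶ Spec (CommRingCat.of A)) [IsProper f] [Surjective f] : oneSieve f ∈ K _ := by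
  refine hK.mem_of_forall_prime _ fun P hP => ?_
  let p : Spec (CommRingCat.of A) := (⟨P, hP⟩ : PrimeSpectrum A)
  -- a closed point of the fibre
  haveI : CompactSpace (f ⁻¹' {p} : Set Y) := isCompact_iff_compactSpace.mp (f.isCompact_preimage_singleton p)
  haveI : Nonempty (f ⁻¹' {p} : Set Y) := let ⟨a, ha⟩ := f.surjective p; ⟨⟨a, ha⟩⟩
  obtain ⟨⟨y, hyp⟩, -, hycl⟩ := (isClosed_univ (X := (f ⁻¹' {p} : Set Y))).exists_closed_singleton Set.univ_nonempty
  replace hyp : f y = p := hyp
  have hy : ∀ w, y ⤳ w → f w = f y → w = y := fun w hw he => by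
    have h1 : (⟨w, he.trans hyp⟩ : (f ⁻¹' {p} : Set Y)) ∈ ({⟨y, hyp⟩} : Set _) :=
      ((subtype_specializes_iff (⟨y, hyp⟩ : (f ⁻¹' {p} : Set Y)) _).mpr hw).mem_closed hycl rfl
    exact congrArg Subtype.val h1
  -- finitely many charts
  haveI : CompactSpace Y := QuasiCompact.compactSpace_of_compactSpace f
  choose U hU hxU _ using fun x : Y =>
    exists_isAffineOpen_mem_and_subset (U := (⊤ : Y.Opens)) (x := x) trivial
  obtain ⟨s, hs⟩ := isCompact_univ.elim_finite_subcover (fun x => (U x : Set Y)) (fun x => (U x).2)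
    (fun x _ => Set.mem_iUnion.mpr ⟨x, hxU x⟩)
  let C : s → Type u := fun i => Γ(Y, U i.1)
  let j : ∀ i : s, Spec (CommRingCat.of (C i)) ⟶ Y := fun i => (hU i.1).fromSpec
  letI alg : ∀ i, Algebra A (C i) := fun i => (Spec.preimage (j i ≫ f)).hom.toAlgebra
  have hj : ∀ i, j i ≫ f = sMap (algebraMap A (C i)) := fun i => (Spec.map_preimage _).symm
  haveI hft : ∀ i, Algebra.FiniteType A (C i) := fun i => by
    have h1 : LocallyOfFiniteType (sMap (algebraMap A (C i))) := by rw [← hj]; infer_instance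
    exact RingHom.finiteType_algebraMap.mp ((HasRingHomProperty.Spec_iff (P := @LocallyOfFiniteType)).mp h1)
  choose G hG using fun i => (hft i).out
  choose Q hQ hQy using fun (i : s) (t : C i) => exists_relation f (j i) (hj i) y hy t
  rw [hyp] at hQ
  classical
  let J₀ : Ideal A := ∏ a ∈ (Finset.univ : Finset s).sigma G, Ideal.span (Set.range (Q a.1 a.2).coeff)
  refine ⟨J₀.map (Ideal.Quotient.mk P), fun h0 => ?_, fun A₁ _ _ φ g hg he => ?_⟩
  · rw [Ideal.map_eq_bot_iff_le_ker, Ideal.mk_ker, Ideal.IsPrime.prod_le hP] at h0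
    obtain ⟨a, -, ha⟩ := h0
    obtain ⟨k, hk⟩ := hQ a.1 a.2
    exact hk (ha (Ideal.subset_span ⟨k, rfl⟩))
  let χ : A →+* A₁ := φ.comp (Ideal.Quotient.mk P)
  letI := χ.toAlgebra
  rw [Ideal.map_map] at he
  haveI : IsLocallyNoetherian (Spec (CommRingCat.of A₁)) := by
    haveI : IsNoetherianRing (CommRingCat.of A₁) := ‹IsNoetherianRing A₁›
    infer_instance
  let q := pullback.fst f (sMap (algebraMap A A₁))
  let π := pullback.snd f (sMap (algebraMap A A₁))
  let S₀ : Set (pullback f (sMap (algebraMap A A₁)) : Scheme.{u}) :=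
    {z | g ∉ (π z).asIdeal ∧ y ⤳ q z}
  let I := Scheme.IdealSheafData.vanishingIdeal (⟨closure S₀, isClosed_closure⟩ : Closeds _)
  let h : I.subscheme ⟶ Spec (CommRingCat.of A₁) := I.subschemeι ≫ π
  have hrange : Set.range I.subschemeι = closure S₀ := by
    rw [Scheme.IdealSheafData.range_subschemeι, Scheme.IdealSheafData.coe_support_vanishingIdeal]
    rfl
  choose m hm hmπ hmq hmr using fun i => exists_chart (A₁ := A₁) f (j i) (hj i)
  -- finite fibres
  have hfin : ∀ x, (h ⁻¹' {x}).Finite := by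
    intro x
    have hcov : closure S₀ ∩ π ⁻¹' {x} ⊆
        ⋃ i, m i '' {z | z ∈ closure (m i ⁻¹' S₀) ∧ PrimeSpectrum.comap (algebraMap A₁ _) z = x} := by
      rintro z ⟨hz, hzx⟩
      obtain ⟨i, hi, hzi⟩ := Set.mem_iUnion₂.mp (hs (Set.mem_univ (q z)))
      obtain ⟨z', rfl⟩ : z ∈ Set.range (m ⟨i, hi⟩) := by
        rw [hmr, Set.mem_preimage, (hU i).range_fromSpec]
        exact hzi
      haveI := hm ⟨i, hi⟩
      refine Set.mem_iUnion.mpr ⟨⟨i, hi⟩, z', ⟨?_, ?_⟩, rfl⟩
      · rw [← (m ⟨i, hi⟩).isOpenEmbedding.isOpenMap.preimage_closure_eq_closure_preimage (m ⟨i, hi⟩).continuous]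
        exact hz
      · rw [← hzx, ← Scheme.Hom.comp_apply, hmπ]
        rfl
    have hfin' : (closure S₀ ∩ π ⁻¹' {x}).Finite := by
      refine (Set.finite_iUnion fun i => Set.Finite.image _ ?_).subset hcov
      let ρ : C i →ₐ[A] A₁ ⊗[A] C i := Algebra.TensorProduct.includeRight
      refine finite_primes_of_relations (A := A₁) (ρ '' (G i : Set (C i))) ((G i).finite_toSet.image _)
        (Algebra.TensorProduct.adjoin_one_tmul_image_eq_top _ (hG i)) x _ (fun z hz => hz.2) ?_
      rintro _ ⟨t, ht, rfl⟩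
      have hP : Ideal.span (Set.range ((Q i t).map χ).coeff) *
          (∏ a ∈ ((Finset.univ : Finset s).sigma G).erase ⟨i, t⟩, Ideal.span (Set.range (Q a.1 a.2).coeff)).map χ =
            Ideal.span {g} := by
        have h1 : Set.range ((Q i t).map χ).coeff = χ '' Set.range (Q i t).coeff := by
          rw [← Set.range_comp]; congr 1; ext k; exact Polynomial.coeff_map _ k
        rw [h1, ← Ideal.map_span, ← Ideal.map_mul, Finset.mul_prod_erase _
          (fun a : (Σ i : s, C i) => Ideal.span (Set.range (Q a.1 a.2).coeff))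
          (a := ⟨i, t⟩) (Finset.mem_sigma.mpr ⟨Finset.mem_univ _, ht⟩)]
        exact he
      obtain ⟨c, R, hR, hcR⟩ := exists_div_poly g hg _ _ hP x.asIdeal
      refine ⟨R, hR, fun z hz => closure_minimal ?_ (PrimeSpectrum.isClosed_zeroLocus {Polynomial.aeval (ρ t) R})
        hz.1 rfl⟩
      rintro w ⟨hwg, hwy⟩ _ rfl
      rw [← Scheme.Hom.comp_apply, hmπ] at hwg
      rw [← Scheme.Hom.comp_apply, hmq] at hwy
      have h2 := hQy i t _ hwy
      have h3 : algebraMap A₁ (A₁ ⊗[A] C i) g * Polynomial.aeval (ρ t) R =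
          algebraMap A₁ (A₁ ⊗[A] C i) c * ρ (Polynomial.aeval t (Q i t)) := by
        have h4 := congrArg (Polynomial.aeval (ρ t)) hcR
        rw [map_mul, map_mul, Polynomial.aeval_C, Polynomial.aeval_C] at h4
        rw [h4, show χ = algebraMap A A₁ from rfl, Polynomial.aeval_map_algebraMap, Polynomial.aeval_algHom_apply]
      refine (w.isPrime.mem_or_mem (h3 ▸ Ideal.mul_mem_left _ _ h2)).resolve_left hwg
    rw [show (h ⁻¹' {x}) = I.subschemeι ⁻¹' (closure S₀ ∩ π ⁻¹' {x}) by
      rw [Set.preimage_inter, ← hrange, Set.preimage_range, Set.univ_inter]; rfl]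
    exact hfin'.preimage I.subschemeι.isClosedEmbedding.injective.injOn
  haveI : LocallyQuasiFinite h := LocallyQuasiFinite.of_finite_preimage_singleton h hfin
  haveI : IsFinite h := IsFinite.of_isProper_of_locallyQuasiFinite h
  -- surjectivity
  have hsurj : Function.Surjective h := by
    intro x
    obtain ⟨p₀, hp₀, hle⟩ := Ideal.exists_minimalPrimes_le (I := (⊥ : Ideal A₁)) (J := x.asIdeal) bot_le
    let x₀ : Spec (CommRingCat.of A₁) := (⟨p₀, hp₀.1.1⟩ : PrimeSpectrum A₁)
    have hg₀ : g ∉ p₀ := fun hgp =>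
      Set.disjoint_left.mp (Ideal.disjoint_nonZeroDivisors_of_mem_minimalPrimes hp₀) hgp hg
    have hx₀ : x₀ ∈ Set.range h := by
      have hcl : IsClosed (f '' closure {y}) := f.isClosedMap _ isClosed_closure
      have hpa : p ⤳ sMap (algebraMap A A₁) x₀ := by
        refine (PrimeSpectrum.le_iff_specializes _ _).mp fun a ha => ?_
        show φ (Ideal.Quotient.mk P a) ∈ p₀
        rw [Ideal.Quotient.eq_zero_iff_mem.mpr ha, map_zero]
        exact zero_mem _
      obtain ⟨y', hy', hy''⟩ := hpa.mem_closed hcl ⟨y, subset_closure rfl, hyp⟩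
      obtain ⟨z, hz₁, hz₂⟩ := Scheme.Pullback.exists_preimage_pullback y' x₀ hy''
      have hz : z ∈ closure S₀ := subset_closure ⟨by rw [show π z = x₀ from hz₂]; exact hg₀,
        by rw [show q z = y' from hz₁]; exact specializes_iff_mem_closure.mpr hy'⟩
      rw [← hrange] at hz
      obtain ⟨z', rfl⟩ := hz
      exact ⟨z', hz₂⟩
    exact ((PrimeSpectrum.le_iff_specializes x₀ x).mp hle).mem_closed h.isClosedMap.isClosed_range hx₀
  haveI : IsAffine I.subscheme := isAffine_of_isAffineHom h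
  obtain ⟨ψ, hψ⟩ := Spec.map_surjective (I.subscheme.isoSpec.inv ≫ h)
  have hψf : IsFinite (Spec.map ψ) := by rw [hψ]; infer_instance
  have hψs : Function.Surjective (PrimeSpectrum.comap ψ.hom) := by
    intro x
    obtain ⟨z, hz⟩ := hsurj x
    obtain ⟨w, rfl⟩ := I.subscheme.isoSpec.inv.surjective z
    refine ⟨w, ?_⟩
    rw [← Scheme.Hom.comp_apply, ← hψ] at hz
    exact hz
  refine K.superset_covering ?_ (hK.mem_finite ψ.hom ((IsFinite.SpecMap_iff ψ).mp hψf) hψs)
  rintro W k ⟨l, rfl⟩
  refine ⟨l ≫ I.subscheme.isoSpec.inv ≫ I.subschemeι ≫ q, ?_⟩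
  simp only [Category.assoc]
  rw [show sMap ψ.hom = Spec.map ψ from rfl, hψ]
  simp only [h, π, q, Category.assoc, pullback.condition]


end Groth.L23.HFlat

end
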