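import Groth.Agent.L23.HFlat.Approx
import Groth.Agent.L23.HCmp.Criterion
import Groth.Agent.L28.VTop.BaseChange
import Groth.Agent.L28.VTop.Squares
import Groth.Agent.L22.Ideal

/-!
# The topology on schemes seen by a presheaf on schemes over a base
-/

set_option autoImplicit false
set_option linter.style.haveILetI false
set_option linter.unusedSectionVars false
set_option backward.isDefEq.respectTransparency.types false

universe w u

open CategoryTheory CategoryTheory.Limits AlgebraicGeometry Opposite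

noncomputable section

namespace Groth.L23.HFlat

variable {S : Scheme.{u}}

/-- Sieves whose base changes to schemes over the base are covering. -/
def inducedTop (J : GrothendieckTopology (Over S)) : GrothendieckTopology Scheme.{u} where
  sieves X := {R | ∀ (T : Over S) (g : T.left ⟶ X), (Sieve.overEquiv T).symm (R.pullback g) ∈ J T}
  top_mem' X T g := by rw [Sieve.pullback_top, map_top]; exact J.top_mem _
  pullback_stable' X Y R h hR T g := by rw [← Sieve.pullback_comp]; exact hR T _
  transitive' X R hR R' h T g := by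
    refine J.transitive (hR T g) _ fun T' a ha => ?_
    rw [← Sieve.overEquiv_symm_pullback]
    have h1 := h ((Sieve.overEquiv_symm_iff _ _).mp ha) T' (𝟙 _)
    rw [Sieve.pullback_id, Sieve.pullback_comp] at h1
    exact h1

/-- The square condition for a presheaf. -/
def SquareCond (F : (Over S)ᵒᵖ ⥤ Type w) : Prop :=
  ∀ (E Z X' X : Over S) (e : E ⟶ X') (π : E ⟶ Z) (b : X' ⟶ X) (i : Z ⟶ X), IsAffine X.left →
    HTop.IsAlmostBlowUpSquare e.left π.left b.left i.left →
    (∃ f₁ f₂ : Γ(X.left, ⊤), i.left.ker = Scheme.IdealSheafData.ofIdealTop (Ideal.span {f₁, f₂})) →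
    ∀ (t : F.obj (op Z)) (s' : F.obj (op X')), F.map π.op t = F.map e.op s' →
      ∃! s : F.obj (op X), F.map i.op s = t ∧ F.map b.op s = s'

/-- The flat condition for a presheaf. -/
def FlatCond (F : (Over S)ᵒᵖ ⥤ Type w) : Prop :=
  ∀ (X Y : Over S) (f : X ⟶ Y), IsAffine Y.left → Surjective f.left → Flat f.left → IsProper f.left →
    LocallyOfFinitePresentation f.left → Presieve.IsSheafFor F (Presieve.singleton f)

theorem comap_ofIdealTop {X Y : Scheme.{u}} [IsAffine X] [IsAffine Y] (g : Y ⟶ X) (a b : Γ(X, ⊤)) :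
    (Scheme.IdealSheafData.ofIdealTop (Ideal.span {a, b})).comap g =
      Scheme.IdealSheafData.ofIdealTop (Ideal.span {g.appTop a, g.appTop b}) := by
  refine Scheme.IdealSheafData.ext_of_isAffine ?_
  rw [Groth.L22.Ideals.comap_ideal_top, Scheme.IdealSheafData.ofIdealTop_ideal,
    Scheme.IdealSheafData.ofIdealTop_ideal]
  simp [Ideal.map_span, Set.image_pair]

theorem hyp_inducedTop {F : (Over S)ᵒᵖ ⥤ Type w} (hZ : Presieve.IsSheaf (Scheme.zariskiTopology.over S) F)
    (hflat : FlatCond F) (hsquare : SquareCond F) : Hyp (inducedTop (Sheaf.finestTopologySingle F)) := by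
  refine Hyp.ofSquares (fun X R hR T g => Groth.L23.HCmp.zariski_over_le hZ _ (by
    rw [GrothendieckTopology.mem_over_iff, OrderIso.apply_symm_apply]
    exact Scheme.zariskiTopology.pullback_stable g hR)) ?_ ?_
  · intro Y X f _ hs hf hp hfp T g
    refine Groth.L23.HCmp.mem_of_affine hZ _ fun U hU h => ?_
    let V : Over S := Over.mk (pullback.fst (h.left ≫ g) f ≫ U.hom)
    let f' : V ⟶ U := Over.homMk (pullback.fst (h.left ≫ g) f) rfl
    have he : ((Sieve.overEquiv T).symm ((oneSieve f).pullback g)).pullback h =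
        Sieve.generate (Presieve.singleton f') := by
      ext W k
      rw [← Sieve.overEquiv_symm_pullback, Sieve.overEquiv_symm_iff, ← Sieve.pullback_comp]
      constructor
      · rintro ⟨l, hl⟩
        exact ⟨V, Over.homMk (pullback.lift k.left l hl.symm)
          (by show _ ≫ pullback.fst _ _ ≫ U.hom = _; rw [pullback.lift_fst_assoc, Over.w k]), f', ⟨⟩,
          Over.OverMorphism.ext (pullback.lift_fst _ _ _)⟩
      · rintro ⟨_, m, _, ⟨⟩, rfl⟩
        exact ⟨m.left ≫ pullback.snd _ _, by
          show _ = (m.left ≫ pullback.fst _ _) ≫ _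
          rw [Category.assoc, Category.assoc, pullback.condition]⟩
    rw [he]
    haveI := hs
    haveI := hf
    haveI := hp
    haveI := hfp
    exact (Presieve.isSheafFor_iff_generate _).1 (hflat V U f' hU
      (inferInstanceAs (Surjective (pullback.fst (h.left ≫ g) f)))
      (inferInstanceAs (Flat (pullback.fst (h.left ≫ g) f)))
      (inferInstanceAs (IsProper (pullback.fst (h.left ≫ g) f)))
      (inferInstanceAs (LocallyOfFinitePresentation (pullback.fst (h.left ≫ g) f))))
  · intro E Z X' X e π b i hX hsq hgen T g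
    refine Groth.L23.HCmp.mem_of_affine hZ _ fun U hU h => ?_
    rw [← Sieve.overEquiv_symm_pullback, ← Sieve.pullback_comp]
    let gg : U.left ⟶ X := h.left ≫ g
    haveI := hsq.isClosedImmersion
    let X₁ : Over S := Over.mk (pullback.fst gg b ≫ U.hom)
    let Z₁ : Over S := Over.mk (pullback.fst gg i ≫ U.hom)
    let b₁ : X₁ ⟶ U := Over.homMk (pullback.fst gg b) rfl
    let i₁ : Z₁ ⟶ U := Over.homMk (pullback.fst gg i) rfl
    let e₀ := pullback.snd e (pullback.snd gg b)
    let π₀ : pullback e (pullback.snd gg b) ⟶ pullback gg i :=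
      pullback.lift (e₀ ≫ pullback.fst gg b) (pullback.fst e _ ≫ π) (by
        simp only [e₀, Category.assoc, ← hsq.isPullback.w]
        rw [pullback.condition, pullback.condition_assoc])
    let E₁ : Over S := Over.mk (e₀ ≫ pullback.fst gg b ≫ U.hom)
    let e₁ : E₁ ⟶ X₁ := Over.homMk e₀ rfl
    let π₁ : E₁ ⟶ Z₁ := Over.homMk π₀ (by
      show π₀ ≫ pullback.fst gg i ≫ U.hom = e₀ ≫ pullback.fst gg b ≫ U.hom
      rw [pullback.lift_fst_assoc, Category.assoc])
    have hsq₁ : HTop.IsAlmostBlowUpSquare e₁.left π₁.left b₁.left i₁.left :=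
      Groth.L28.VTop.isAlmostBlowUpSquare_baseChange hsq gg (IsPullback.of_hasPullback gg b).flip
        (IsPullback.of_hasPullback gg i).flip (IsPullback.of_hasPullback e (pullback.snd gg b))
        (pullback.lift_fst _ _ _)
    have hgen₁ : ∃ f₁ f₂ : Γ(U.left, ⊤),
        i₁.left.ker = Scheme.IdealSheafData.ofIdealTop (Ideal.span {f₁, f₂}) := by
      obtain ⟨a, c, hac⟩ := hgen
      haveI := hX
      haveI := hU
      refine ⟨gg.appTop a, gg.appTop c, ?_⟩
      show (pullback.fst gg i).ker = _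
      rw [Groth.L28.VTop.ker_of_isPullback (IsPullback.of_hasPullback gg i).flip, hac, comap_ofIdealTop]
    let R₁ := (Sieve.overEquiv U).symm ((pairSieve i b).pullback gg)
    have hi₁ : R₁ i₁ := (Sieve.overEquiv_symm_iff _ _).2 (Or.inl ⟨pullback.snd gg i, pullback.condition.symm⟩)
    have hb₁ : R₁ b₁ := (Sieve.overEquiv_symm_iff _ _).2 (Or.inr ⟨pullback.snd gg b, pullback.condition.symm⟩)
    intro x hx
    obtain ⟨s, ⟨hst, hss⟩, huniq⟩ := hsquare E₁ Z₁ X₁ U e₁ π₁ b₁ i₁ hU hsq₁ hgen₁ (x i₁ hi₁) (x b₁ hb₁)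
      (hx π₁ e₁ hi₁ hb₁ (Over.OverMorphism.ext (pullback.lift_fst _ _ _)))
    refine ⟨s, fun W k hk => ?_, fun y hy => huniq y ⟨hy i₁ hi₁, hy b₁ hb₁⟩⟩
    rcases (Sieve.overEquiv_symm_iff _ _).1 hk with ⟨l, hl⟩ | ⟨l, hl⟩
    · let m : W ⟶ Z₁ := Over.homMk (pullback.lift k.left l hl.symm)
        (by show _ ≫ pullback.fst _ _ ≫ U.hom = _; rw [pullback.lift_fst_assoc, Over.w k])
      have hm : m ≫ i₁ = k := Over.OverMorphism.ext (pullback.lift_fst _ _ _)
      have h2 := hx m (𝟙 W) hi₁ hk (by rw [Category.id_comp, hm])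
      have h3 : F.map k.op s = F.map m.op (F.map i₁.op s) := by
        rw [← Functor.map_comp_apply, ← op_comp, hm]
      rw [h3, hst]
      simpa using h2
    · let m : W ⟶ X₁ := Over.homMk (pullback.lift k.left l hl.symm)
        (by show _ ≫ pullback.fst _ _ ≫ U.hom = _; rw [pullback.lift_fst_assoc, Over.w k])
      have hm : m ≫ b₁ = k := Over.OverMorphism.ext (pullback.lift_fst _ _ _)
      have h2 := hx m (𝟙 W) hb₁ hk (by rw [Category.id_comp, hm])
      have h3 : F.map k.op s = F.map m.op (F.map b₁.op s) := by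
        rw [← Functor.map_comp_apply, ← op_comp, hm]
      rw [h3, hss]
      simpa using h2

theorem isSheaf_Jh_of_hyp {F : (Over S)ᵒᵖ ⥤ Type w} (hZ : Presieve.IsSheaf (Scheme.zariskiTopology.over S) F)
    (hyp : Hyp (inducedTop (Sheaf.finestTopologySingle F))) : Presieve.IsSheaf (HTop.Jh S) F := by
  refine (Groth.L23.HCmp.isSheaf_Jh_iff F).2 ⟨hZ, fun U V f hU hp hs hfp => ?_⟩
  haveI := hU
  haveI := hp
  haveI := hs
  haveI := hfp
  have h := hyp.mem_proper_fp f.left U (𝟙 _)
  rw [Sieve.pullback_id] at h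
  rw [Presieve.isSheafFor_iff_generate]
  refine (Groth.L23.HCmp.isSheafFor_of_mem (Sheaf.finestTopologySingle F |>.superset_covering ?_ h))
  intro W k hk
  obtain ⟨l, hl⟩ := (Sieve.overEquiv_symm_iff _ _).1 hk
  exact ⟨V, Over.homMk l (by rw [← Over.w f, ← Category.assoc, hl, Over.w k]), f, ⟨⟩, Over.OverMorphism.ext hl⟩

/-- The criterion. -/
theorem isSheaf_Jh_of_conds {F : (Over S)ᵒᵖ ⥤ Type w} (hZ : Presieve.IsSheaf (Scheme.zariskiTopology.over S) F)
    (hflat : FlatCond F) (hsquare : SquareCond F) : Presieve.IsSheaf (HTop.Jh S) F :=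
  isSheaf_Jh_of_hyp hZ (hyp_inducedTop hZ hflat hsquare)

theorem existsUnique_of_isSheaf_Jh {F : (Over S)ᵒᵖ ⥤ Type w} (hF : Presieve.IsSheaf (HTop.Jh S) F)
    {E Z X' X : Over S} (e : E ⟶ X') (π : E ⟶ Z) (b : X' ⟶ X) (i : Z ⟶ X)
    (h : HTop.IsAlmostBlowUpSquare e.left π.left b.left i.left) (t : F.obj (op Z)) (s' : F.obj (op X'))
    (hts : F.map π.op t = F.map e.op s') : ∃! s : F.obj (op X), F.map i.op s = t ∧ F.map b.op s = s' := by
  haveI := h.isClosedImmersion
  haveI := h.isProper
  haveI := h.finitePresentation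
  haveI := h.finitePresentation_base
  exact Groth.L28.VTop.existsUnique_square (HTop.Jh S) hF
    @LocallyOfFinitePresentation (fun W A B a b ha hb ha' hb' hs R hRa hRb =>
      haveI := ha; haveI := hb; haveI := ha'; haveI := hb'
      Groth.L28.VTop.mem_Jh_pair a b hs R hRa hRb)
    h.isPullback h.finitePresentation_base h.finitePresentation
    (Groth.L28.VTop.lfp_diagonal b.left) i.left.ker.support.compl
    (fun y hy => Groth.L28.VTop.mem_range_of_mem_support i.left hy)
    (Groth.L28.VTop.isIso_restrict_of_almostBlowUp h) t s' hts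

end Groth.L23.HFlat

end
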