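import Groth.Agent.L23.HFlat.Basic

/-!
# Covers by affine pieces replacing the almost blow-up squares
-/

set_option autoImplicit false
set_option linter.style.haveILetI false
set_option linter.unusedSectionVars false
set_option backward.isDefEq.respectTransparency.types false

universe u

open CategoryTheory CategoryTheory.Limits AlgebraicGeometry
open Polynomial

noncomputable section

namespace Groth.L23.HFlat

/-- The map on functions of a morphism to a spectrum. -/
def ev {A : Type u} [CommRing A] {W : Scheme.{u}} (k : W ⟶ Spec (CommRingCat.of A)) : A →+* Γ(W, ⊤) :=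
  ((Scheme.ΓSpecIso (CommRingCat.of A)).inv ≫ k.appTop).hom

theorem ev_comp {A : Type u} [CommRing A] {W W' : Scheme.{u}} (m : W' ⟶ W) (k : W ⟶ Spec (CommRingCat.of A)) :
    ev (m ≫ k) = m.appTop.hom.comp (ev k) := rfl

theorem exists_factor {A B : Type u} [CommRing A] [CommRing B] (φ : A →+* B) {W : Scheme.{u}}
    (k : W ⟶ Spec (CommRingCat.of A)) (ρ : B →+* Γ(W, ⊤)) (h : ρ.comp φ = ev k) :
    ∃ m : W ⟶ Spec (CommRingCat.of B), m ≫ sMap φ = k := by
  refine ⟨W.toSpecΓ ≫ sMap ρ, ?_⟩
  rw [Category.assoc, sMap_comp, h]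
  show W.toSpecΓ ≫ Spec.map ((Scheme.ΓSpecIso (CommRingCat.of A)).inv ≫ k.appTop) = k
  rw [Spec.map_comp, ← Scheme.toSpecΓ_naturality_assoc,
    show (Spec (CommRingCat.of A)).toSpecΓ ≫ Spec.map (Scheme.ΓSpecIso (CommRingCat.of A)).inv = 𝟙 _ by
      rw [← SpecMap_ΓSpecIso_hom, ← Spec.map_comp, Iso.inv_hom_id, Spec.map_id],
    Category.comp_id]

/-- Morphisms killing one of two ideals. -/
def closedPair {A : Type u} [CommRing A] (I J : Ideal A) : Sieve (Spec (CommRingCat.of A)) where
  arrows _ k := I.map (ev k) = ⊥ ∨ J.map (ev k) = ⊥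
  downward_closed := by
    rintro W W' k h m
    rw [ev_comp, ← Ideal.map_map, ← Ideal.map_map]
    rcases h with h | h <;> simp [h]

/-- Morphisms along which one of two elements divides the other. -/
def divPair {A : Type u} [CommRing A] (a b : A) : Sieve (Spec (CommRingCat.of A)) where
  arrows W k := (∃ t, ev k a * t = ev k b) ∨ (∃ t, ev k b * t = ev k a)
  downward_closed := by
    rintro W W' k h m
    rw [ev_comp]
    rcases h with ⟨t, ht⟩ | ⟨t, ht⟩
    · exact Or.inl ⟨m.appTop t, by simp [← ht]⟩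
    · exact Or.inr ⟨m.appTop t, by simp [← ht]⟩

variable {K : GrothendieckTopology Scheme.{u}}

theorem mem_of_closed_pair (hpair : ∀ (A : Type u) [CommRing A] (I J : Ideal A), IsNilpotent (I * J) →
    closedPair I J ∈ K _) {A : Type u} [CommRing A] (I J : Ideal A) (h : IsNilpotent (I * J))
    (R : Sieve (Spec (CommRingCat.of A))) (hI : R.pullback (sMap (Ideal.Quotient.mk I)) ∈ K _)
    (hJ : R.pullback (sMap (Ideal.Quotient.mk J)) ∈ K _) : R ∈ K _ := by
  refine K.transitive (hpair A I J h) R ?_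
  intro W k hk
  rcases hk with hk | hk
  · obtain ⟨m, hm⟩ := exists_factor (Ideal.Quotient.mk I) k (Ideal.Quotient.lift I (ev k) fun x hx => by
      rw [← Ideal.mem_bot, ← hk]; exact Ideal.mem_map_of_mem _ hx) rfl
    exact pullback_mem_of_le R _ m k hm hI
  · obtain ⟨m, hm⟩ := exists_factor (Ideal.Quotient.mk J) k (Ideal.Quotient.lift J (ev k) fun x hx => by
      rw [← Ideal.mem_bot, ← hk]; exact Ideal.mem_map_of_mem _ hx) rfl
    exact pullback_mem_of_le R _ m k hm hJ

theorem mem_of_chartRing (hpair : ∀ (A : Type u) [CommRing A] (I J : Ideal A), IsNilpotent (I * J) →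
    closedPair I J ∈ K _) {A C : Type u} [CommRing A] [CommRing C] [IsNoetherianRing C] (a b : A) (φ : A →+* C)
    (y : C) (hb : φ b = φ a * y) (R : Sieve (Spec (CommRingCat.of A)))
    (hZ : R.pullback (sMap (Ideal.Quotient.mk (Ideal.span {a, b}))) ∈ K _)
    (hY : ∀ (A₁ : Type u) [CommRing A₁] [IsNoetherianRing A₁] (φ : A →+* A₁) (g : A₁), g ∈ nonZeroDivisors A₁ →
      (Ideal.span {a, b}).map φ = Ideal.span {g} → R.pullback (sMap φ) ∈ K _) :
    R.pullback (sMap φ) ∈ K _ := by
  let a₁ : C := φ a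
  let f : ℕ →o Submodule C C := ⟨fun n => LinearMap.ker (LinearMap.mul C C (a₁ ^ n)), fun n n' hn x hx => by
    simp only [LinearMap.mem_ker, LinearMap.mul_apply_apply] at hx ⊢
    rw [← Nat.sub_add_cancel hn, pow_add, mul_assoc, hx, mul_zero]⟩
  obtain ⟨N, hN⟩ := monotone_stabilizes_iff_noetherian.mpr ‹IsNoetherianRing C› f
  let J : Ideal C := f (N + 1)
  have hJmem : ∀ x, x ∈ J ↔ a₁ ^ (N + 1) * x = 0 := fun x => Iff.rfl
  have h0 : Ideal.Quotient.mk (Ideal.span {a₁}) (φ a) = 0 :=
    Ideal.Quotient.eq_zero_iff_mem.mpr (Ideal.mem_span_singleton_self _)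
  refine mem_of_closed_pair hpair (Ideal.span {a₁}) J ⟨N + 1, ?_⟩ _ ?_ ?_
  · rw [mul_pow, Ideal.span_singleton_pow, Ideal.zero_eq_bot, eq_bot_iff]
    refine le_trans (Ideal.mul_mono_right (Ideal.pow_le_self (Nat.succ_ne_zero N))) ?_
    refine Ideal.mul_le.mpr fun r hr x hx => ?_
    obtain ⟨r', rfl⟩ := Ideal.mem_span_singleton.mp hr
    rw [Ideal.mem_bot, mul_right_comm, (hJmem x).mp hx, zero_mul]
  · rw [← Sieve.pullback_comp, sMap_comp]
    have h1 : (Ideal.span {a, b}).map ((Ideal.Quotient.mk (Ideal.span {a₁})).comp φ) = ⊥ := by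
      rw [Ideal.map_span, Set.image_pair, Ideal.span_eq_bot, RingHom.comp_apply, RingHom.comp_apply, hb, map_mul, h0,
        zero_mul]
      simp
    obtain ⟨l, hl⟩ := sMap_factor _ _ h1
    exact pullback_mem_of_le R _ l _ hl hZ
  · rw [← Sieve.pullback_comp, sMap_comp]
    refine hY _ _ (Ideal.Quotient.mk J a₁) (mem_nonZeroDivisors_iff_right.mpr fun x hx => ?_) ?_
    · obtain ⟨x, rfl⟩ := Ideal.Quotient.mk_surjective x
      rw [← map_mul, Ideal.Quotient.eq_zero_iff_mem, hJmem] at hx
      rw [Ideal.Quotient.eq_zero_iff_mem]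
      have h2 : x ∈ f (N + 2) := by
        show a₁ ^ (N + 2) * x = 0
        rw [pow_succ, mul_assoc, mul_comm a₁]; exact hx
      exact (hN (N + 1) (by omega)).le ((hN (N + 2) (by omega)).ge h2)
    · rw [Ideal.map_span, Set.image_pair, RingHom.comp_apply, RingHom.comp_apply, hb, map_mul]
      exact le_antisymm (Ideal.span_le.mpr (by
        rintro _ (rfl | rfl)
        · exact Ideal.mem_span_singleton_self _
        · exact Ideal.mul_mem_right _ _ (Ideal.mem_span_singleton_self _)))
        (Ideal.span_mono (by simp [a₁]))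

theorem mem_of_blow_chart (hpair : ∀ (A : Type u) [CommRing A] (I J : Ideal A), IsNilpotent (I * J) →
    closedPair I J ∈ K _) {A : Type u} [CommRing A] [IsNoetherianRing A] (a b : A)
    (R : Sieve (Spec (CommRingCat.of A)))
    (hZ : R.pullback (sMap (Ideal.Quotient.mk (Ideal.span {a, b}))) ∈ K _)
    (hY : ∀ (A₁ : Type u) [CommRing A₁] [IsNoetherianRing A₁] (φ : A →+* A₁) (g : A₁), g ∈ nonZeroDivisors A₁ →
      (Ideal.span {a, b}).map φ = Ideal.span {g} → R.pullback (sMap φ) ∈ K _)
    {W : Scheme.{u}} (k : W ⟶ Spec (CommRingCat.of A)) (t : Γ(W, ⊤)) (ht : ev k a * t = ev k b) :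
    R.pullback k ∈ K W := by
  let I : Ideal A[X] := Ideal.span {Polynomial.C a * X - Polynomial.C b}
  let φ : A →+* A[X] ⧸ I := (Ideal.Quotient.mk I).comp Polynomial.C
  have hb : φ b = φ a * Ideal.Quotient.mk I X := by
    symm
    show Ideal.Quotient.mk I (Polynomial.C a) * Ideal.Quotient.mk I X = Ideal.Quotient.mk I (Polynomial.C b)
    rw [← map_mul, Ideal.Quotient.eq]
    exact Ideal.mem_span_singleton_self _
  have hlift : ∀ x ∈ I, Polynomial.eval₂RingHom (ev k) t x = 0 := by
    intro x hx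
    obtain ⟨r, rfl⟩ := Ideal.mem_span_singleton.mp hx
    rw [map_mul]
    simp [ht]
  obtain ⟨m, hm⟩ := exists_factor φ k (Ideal.Quotient.lift I (Polynomial.eval₂RingHom (ev k) t) hlift)
    (RingHom.ext fun x => Polynomial.eval₂_C _ _)
  exact pullback_mem_of_le R _ m k hm (mem_of_chartRing hpair a b φ _ hb R hZ hY)

/-- Closed pairs with nilpotent product and division covers give the needed covers. -/
theorem Hyp.ofAffine (hz : Scheme.zariskiTopology ≤ K)
    (hf : ∀ {Y X : Scheme.{u}} (f : Y ⟶ X), IsAffine X → Surjective f → Flat f → IsProper f →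
      LocallyOfFinitePresentation f → oneSieve f ∈ K X)
    (hpair : ∀ (A : Type u) [CommRing A] (I J : Ideal A), IsNilpotent (I * J) → closedPair I J ∈ K _)
    (hdiv : ∀ (A : Type u) [CommRing A] (a b : A), divPair a b ∈ K _) : Hyp K where
  zariski := hz
  flat := hf
  blowTwo {A} _ _ a b R hZ hY := by
    refine K.transitive (hdiv A a b) R ?_
    rintro W k (⟨t, ht⟩ | ⟨t, ht⟩)
    · exact mem_of_blow_chart hpair a b R hZ hY k t ht
    · exact mem_of_blow_chart hpair b a R (by rw [Set.pair_comm]; exact hZ)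
        (fun A₁ _ _ φ g hg he => hY A₁ φ g hg (by rw [Set.pair_comm]; exact he)) k t ht

end Groth.L23.HFlat

end
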