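import Groth.Agent.L23.HFlat.Proper
import Groth.Agent.L05.ModelFG
import Groth.Agent.L00.LimSurj
import Groth.Agent.L02.ConsP.PairDescends
import Groth.Agent.L06.Subtr.FlatGlobal

/-!
# Proper surjective morphisms of finite presentation to affine schemes are covering
-/

set_option autoImplicit false
set_option linter.style.haveILetI false
set_option linter.unusedSectionVars false
set_option backward.isDefEq.respectTransparency.types false

universe u

open CategoryTheory CategoryTheory.Limits AlgebraicGeometry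

noncomputable section

namespace Groth.L23.HFlat

variable {K : GrothendieckTopology Scheme.{u}} (hK : Hyp K)
include hK

theorem Hyp.mem_proper_fp {Y X : Scheme.{u}} (f : Y ⟶ X) [IsAffine X] [IsProper f] [Surjective f]
    [LocallyOfFinitePresentation f] : oneSieve f ∈ K X := by
  let e := X.isoSpec
  obtain ⟨A₀, hA₀, X₀, f₀, g, ⟨hp, hs⟩, -, -, hsq⟩ :=
    Groth.L05.ModelFG.exists_model Γ(X, ⊤)
      (Groth.L06.Subtr.descends_inf _root_.L02.ConsP.descends_isProper Groth.L00.LimSurj.descends_surjective)
      (f ≫ e.hom) ⟨(inferInstance : IsProper (f ≫ e.hom)), (inferInstance : Surjective (f ≫ e.hom))⟩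
  haveI : Algebra.FiniteType ℤ A₀ := A₀.fg_iff_finiteType.mp hA₀
  haveI : IsNoetherianRing A₀ := Algebra.FiniteType.isNoetherianRing ℤ A₀
  haveI := hp
  haveI := hs
  have hsq' : IsPullback g f f₀ (e.hom ≫ Spec.map (CommRingCat.ofHom (algebraMap A₀ Γ(X, ⊤)))) :=
    hsq.of_iso (Iso.refl _) (Iso.refl _) e.symm (Iso.refl _) (by simp) (by simp) (by simp) (by simp)
  refine K.superset_covering ?_
    (K.pullback_stable (e.hom ≫ Spec.map (CommRingCat.ofHom (algebraMap A₀ Γ(X, ⊤)))) (hK.mem_proper f₀))
  rintro W k ⟨l, hl⟩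
  exact ⟨hsq'.lift l k hl, hsq'.lift_snd _ _ _⟩

end Groth.L23.HFlat

end
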