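import Groth.Agent.L28.VTop.Exists
import Groth.Agent.L13.BlowUp.Proper
import Groth.Prelude.Def_HTop3
import Mathlib.AlgebraicGeometry.Sites.BigZariski
import Mathlib.AlgebraicGeometry.Morphisms.FlatDescent

/-!
# Topologies generated by Zariski covers, flat proper covers and almost blow-up squares
-/

set_option autoImplicit false
set_option linter.style.haveILetI false
set_option linter.unusedSectionVars false
set_option backward.isDefEq.respectTransparency.types false

universe u

open CategoryTheory CategoryTheory.Limits AlgebraicGeometry TopologicalSpace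

noncomputable section

namespace Groth.L23.HFlat

/-- Arrows factoring through a given one. -/
def oneSieve {Y X : Scheme.{u}} (f : Y ⟶ X) : Sieve X where
  arrows _ k := ∃ l, l ≫ f = k
  downward_closed := by rintro W W' k ⟨l, rfl⟩ m; exact ⟨m ≫ l, Category.assoc _ _ _⟩

/-- Arrows factoring through one of two given ones. -/
def pairSieve {Z Y X : Scheme.{u}} (i : Z ⟶ X) (b : Y ⟶ X) : Sieve X := oneSieve i ⊔ oneSieve b

/-- `Spec` of a ring map, as a morphism. -/
abbrev sMap {A B : Type u} [CommRing A] [CommRing B] (φ : A →+* B) :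
    Spec (CommRingCat.of B) ⟶ Spec (CommRingCat.of A) := Spec.map (CommRingCat.ofHom φ)

/-- The covers we allow. -/
structure Hyp (K : GrothendieckTopology Scheme.{u}) : Prop where
  zariski : Scheme.zariskiTopology ≤ K
  flat : ∀ {Y X : Scheme.{u}} (f : Y ⟶ X), IsAffine X → Surjective f → Flat f → IsProper f →
    LocallyOfFinitePresentation f → oneSieve f ∈ K X
  blowTwo : ∀ {A : Type u} [CommRing A] [IsNoetherianRing A] (a b : A) (R : Sieve (Spec (CommRingCat.of A))),
    R.pullback (sMap (Ideal.Quotient.mk (Ideal.span {a, b}))) ∈ K _ →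
    (∀ (A₁ : Type u) [CommRing A₁] [IsNoetherianRing A₁] (φ : A →+* A₁) (g : A₁), g ∈ nonZeroDivisors A₁ →
      (Ideal.span {a, b}).map φ = Ideal.span {g} → R.pullback (sMap φ) ∈ K _) → R ∈ K _

theorem mem_of_cover {K : GrothendieckTopology Scheme.{u}} (hz : Scheme.zariskiTopology ≤ K) {X : Scheme.{u}}
    (R : Sieve X)
    (h : ∀ x : X, ∃ (W : Scheme.{u}) (j : W ⟶ X), IsOpenImmersion j ∧ x ∈ Set.range j ∧ R.pullback j ∈ K W) :
    R ∈ K X := by
  choose W j hj hx hR using h
  haveI := hj
  let 𝒰 : X.OpenCover := Scheme.Cover.mkOfCovers X W j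
    (fun x => ⟨x, (hx x).choose, (hx x).choose_spec⟩) (fun x => hj x)
  refine K.transitive (hz X (Scheme.Cover.mem_grothendieckTopology (P := @IsOpenImmersion) 𝒰)) R ?_
  rintro Y g ⟨_, m, _, ⟨x⟩, rfl⟩
  rw [Sieve.pullback_comp]
  exact K.pullback_stable m (hR x)

theorem pullback_mem_of_le {K : GrothendieckTopology Scheme.{u}} {X Y Z : Scheme.{u}} (R : Sieve X) (i : Z ⟶ X)
    (k : Y ⟶ Z) (g : Y ⟶ X) (e : k ≫ i = g) (h : R.pullback i ∈ K Z) : R.pullback g ∈ K Y := by
  rw [← e, Sieve.pullback_comp]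
  exact K.pullback_stable k h

variable {K : GrothendieckTopology Scheme.{u}} (hK : Hyp K)
include hK

theorem Hyp.mem_of_cover {X : Scheme.{u}} (R : Sieve X)
    (h : ∀ x : X, ∃ (W : Scheme.{u}) (j : W ⟶ X), IsOpenImmersion j ∧ x ∈ Set.range j ∧ R.pullback j ∈ K W) :
    R ∈ K X :=
  Groth.L23.HFlat.mem_of_cover hK.zariski R h

theorem Hyp.mem_of_isEmpty {X : Scheme.{u}} [IsEmpty X] (R : Sieve X) : R ∈ K X :=
  hK.mem_of_cover R fun x => isEmptyElim x

omit hK in
theorem sMap_comp {A B C : Type u} [CommRing A] [CommRing B] [CommRing C] (φ : A →+* B) (ψ : B →+* C) :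
    sMap ψ ≫ sMap φ = sMap (ψ.comp φ) := by
  rw [← Spec.map_comp]; rfl

omit hK in
theorem sMap_factor {A B : Type u} [CommRing A] [CommRing B] (I : Ideal A) (φ : A →+* B) (h : I.map φ = ⊥) :
    ∃ k : Spec (CommRingCat.of B) ⟶ Spec (CommRingCat.of (A ⧸ I)), k ≫ sMap (Ideal.Quotient.mk I) = sMap φ :=
  ⟨sMap (Ideal.Quotient.lift I φ fun a ha => by
      rw [← Ideal.mem_bot, ← h]; exact Ideal.mem_map_of_mem φ ha), by rw [sMap_comp]; rfl⟩

omit hK in
theorem ker_sMap_quotient {A : Type u} [CommRing A] (I : Ideal A) :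
    (sMap (Ideal.Quotient.mk I)).ker = Groth.L13.BU.idealOf I := by
  refine Scheme.IdealSheafData.ext_of_isAffine ?_
  rw [Groth.L13.BU.idealOf_top, Scheme.Hom.ker_apply]
  ext x
  obtain ⟨a, rfl⟩ := (ConcreteCategory.bijective_of_isIso (Scheme.ΓSpecIso (CommRingCat.of A)).inv).2 x
  have hn : (sMap (Ideal.Quotient.mk I)).appTop ((Scheme.ΓSpecIso (CommRingCat.of A)).inv a) =
      (Scheme.ΓSpecIso (CommRingCat.of (A ⧸ I))).inv (Ideal.Quotient.mk I a) :=
    (ConcreteCategory.congr_hom (Scheme.ΓSpecIso_inv_naturality (CommRingCat.ofHom (Ideal.Quotient.mk I))) a).symm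
  rw [RingHom.mem_ker, Ideal.mem_map_iff_of_surjective _
    (ConcreteCategory.bijective_of_isIso (Scheme.ΓSpecIso (CommRingCat.of A)).inv).2]
  show (sMap (Ideal.Quotient.mk I)).appTop ((Scheme.ΓSpecIso (CommRingCat.of A)).inv a) = 0 ↔ _
  rw [hn]
  constructor
  · intro hz
    refine ⟨a, ?_, rfl⟩
    rw [← map_zero (Scheme.ΓSpecIso (CommRingCat.of (A ⧸ I))).inv.hom] at hz
    exact Ideal.Quotient.eq_zero_iff_mem.mp
      ((ConcreteCategory.bijective_of_isIso (Scheme.ΓSpecIso (CommRingCat.of (A ⧸ I))).inv).1 hz)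
  · rintro ⟨c, hc, he⟩
    rw [← (ConcreteCategory.bijective_of_isIso (Scheme.ΓSpecIso (CommRingCat.of A)).inv).1 he,
      Ideal.Quotient.eq_zero_iff_mem.mpr hc, map_zero]

omit hK in
theorem mem_of_blow_two_of_square {K : GrothendieckTopology Scheme.{u}} (hz : Scheme.zariskiTopology ≤ K)
    (hsqK : ∀ {E Z X' X : Scheme.{u}} (e : E ⟶ X') (π : E ⟶ Z) (b : X' ⟶ X) (i : Z ⟶ X), IsAffine X →
      HTop.IsAlmostBlowUpSquare e π b i →
      (∃ f₁ f₂ : Γ(X, ⊤), i.ker = Scheme.IdealSheafData.ofIdealTop (Ideal.span {f₁, f₂})) →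
      pairSieve i b ∈ K X) {A : Type u} [CommRing A] [IsNoetherianRing A] (a b : A)
    (R : Sieve (Spec (CommRingCat.of A)))
    (hZ : R.pullback (sMap (Ideal.Quotient.mk (Ideal.span {a, b}))) ∈ K _)
    (hY : ∀ (A₁ : Type u) [CommRing A₁] [IsNoetherianRing A₁] (φ : A →+* A₁) (g : A₁), g ∈ nonZeroDivisors A₁ →
      (Ideal.span {a, b}).map φ = Ideal.span {g} → R.pullback (sMap φ) ∈ K _) : R ∈ K _ := by
  let I : Ideal A := Ideal.span {a, b}
  let i := sMap (Ideal.Quotient.mk I)
  haveI : IsLocallyNoetherian (Spec (CommRingCat.of A)) := by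
    haveI : IsNoetherianRing (CommRingCat.of A) := ‹IsNoetherianRing A›
    infer_instance
  haveI : IsClosedImmersion i := IsClosedImmersion.spec_of_surjective _ Ideal.Quotient.mk_surjective
  haveI : LocallyOfFinitePresentation i :=
    (HasRingHomProperty.Spec_iff (P := @LocallyOfFinitePresentation)).2
      (RingHom.FinitePresentation.of_surjective _ Ideal.Quotient.mk_surjective
        (by rw [CommRingCat.hom_ofHom, Ideal.mk_ker]; exact IsNoetherian.noetherian _))
  obtain ⟨B, β, hβ⟩ := Groth.L13.BU.exists_isBlowUp (Groth.L13.BU.idealOf I)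
  haveI : IsProper β := Groth.L13.BU.isProper_blowUp hβ fun U =>
    haveI := IsLocallyNoetherian.component_noetherian (X := Spec (CommRingCat.of A)) U
    IsNoetherian.noetherian _
  haveI : LocallyOfFinitePresentation β :=
    LocallyOfFinitePresentation.iff_locallyOfFiniteType.2 inferInstance
  have hsq : HTop.IsAlmostBlowUpSquare (pullback.fst β i) (pullback.snd β i) β i := by
    refine ⟨inferInstance, inferInstance, IsPullback.of_hasPullback _ _, ?_, inferInstance, inferInstance, ?_⟩
    · rw [ker_sMap_quotient]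
      intro x
      obtain ⟨U, hxU, f, -, hU⟩ := hβ.1 x
      exact ⟨U, hxU, f, hU⟩
    · rw [ker_sMap_quotient, Groth.L28.VTop.supportedOn_eq_bot hβ.1]
      haveI : IsIso (⊥ : B.IdealSheafData).subschemeι :=
        IsClosedImmersion.isIso_iff_ker_eq_bot.2 (Scheme.IdealSheafData.ker_subschemeι _)
      exact Groth.L28.VTop.isBlowUp_of_iso_source (asIso (⊥ : B.IdealSheafData).subschemeι) hβ
  have hmem := hsqK _ _ β i inferInstance hsq
    ⟨(Scheme.ΓSpecIso (CommRingCat.of A)).inv a, (Scheme.ΓSpecIso (CommRingCat.of A)).inv b, by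
      rw [ker_sMap_quotient]
      show Scheme.IdealSheafData.ofIdealTop (Ideal.map _ (Ideal.span {a, b})) = _
      rw [Ideal.map_span, Set.image_pair]⟩
  refine K.transitive hmem R ?_
  rintro Y g (⟨l, rfl⟩ | ⟨l, rfl⟩)
  · exact pullback_mem_of_le R i l _ rfl hZ
  refine pullback_mem_of_le R β l _ rfl (mem_of_cover hz _ fun x => ?_)
  haveI : IsLocallyNoetherian B := LocallyOfFiniteType.isLocallyNoetherian β
  obtain ⟨W, c, -, hxW, hW⟩ := Groth.L13.BU.exists_local_generator hβ.1 x
  have hWA : IsAffineOpen W.1 := W.2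
  haveI : IsNoetherianRing Γ(B, W.1) := IsLocallyNoetherian.component_noetherian W
  have hnzd := Groth.L13.BU.nzd_of_span hβ.1 W _ hW
  refine ⟨_, hWA.fromSpec, inferInstance, by rw [hWA.range_fromSpec]; exact hxW, ?_⟩
  rw [← Sieve.pullback_comp, Groth.L13.BU.fromSpec_affHom β hWA]
  exact hY _ _ _ hnzd ((Groth.L13.BU.comap_affHom β W I).symm.trans hW)

omit hK in
/-- Two-generated almost blow-up squares give the needed covers. -/
theorem Hyp.ofSquares {K : GrothendieckTopology Scheme.{u}} (hz : Scheme.zariskiTopology ≤ K)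
    (hf : ∀ {Y X : Scheme.{u}} (f : Y ⟶ X), IsAffine X → Surjective f → Flat f → IsProper f →
      LocallyOfFinitePresentation f → oneSieve f ∈ K X)
    (hsqK : ∀ {E Z X' X : Scheme.{u}} (e : E ⟶ X') (π : E ⟶ Z) (b : X' ⟶ X) (i : Z ⟶ X), IsAffine X →
      HTop.IsAlmostBlowUpSquare e π b i →
      (∃ f₁ f₂ : Γ(X, ⊤), i.ker = Scheme.IdealSheafData.ofIdealTop (Ideal.span {f₁, f₂})) →
      pairSieve i b ∈ K X) : Hyp K where
  zariski := hz
  flat := hf
  blowTwo a b R := mem_of_blow_two_of_square hz hsqK a b R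

theorem Hyp.mem_of_blow_list (n : ℕ) : ∀ (A : Type u) [CommRing A] [IsNoetherianRing A] (l : List A),
    l.length ≤ n → ∀ (R : Sieve (Spec (CommRingCat.of A))),
    R.pullback (sMap (Ideal.Quotient.mk (Ideal.ofList l))) ∈ K _ →
    (∀ (A₁ : Type u) [CommRing A₁] [IsNoetherianRing A₁] (φ : A →+* A₁) (g : A₁), g ∈ nonZeroDivisors A₁ →
      (Ideal.ofList l).map φ = Ideal.span {g} → R.pullback (sMap φ) ∈ K _) → R ∈ K _ := by
  induction n using Nat.strong_induction_on with
  | _ n ih =>
    intro A _ _ l hl R hZ hY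
    match l, hl with
    | [], _ =>
      have e : Ideal.ofList ([] : List A) = Ideal.span {0, 0} := by simp [Ideal.ofList_nil]
      rw [e] at hZ hY
      exact hK.blowTwo 0 0 R hZ hY
    | [a], _ =>
      have e : Ideal.ofList [a] = Ideal.span {a, a} := by simp [Ideal.ofList_singleton]
      rw [e] at hZ hY
      exact hK.blowTwo a a R hZ hY
    | a :: b :: rest, hl =>
      have hn : rest.length + 1 < n := by simp only [List.length_cons] at hl; omega
      have hJ : Ideal.ofList (a :: b :: rest) = Ideal.span {a, b} ⊔ Ideal.ofList rest := by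
        rw [Ideal.ofList_cons, Ideal.ofList_cons, ← sup_assoc, Ideal.span_insert]
      refine hK.blowTwo a b R ?_ ?_
      · let q := Ideal.Quotient.mk (Ideal.span {a, b})
        refine ih (rest.length + 1) hn _ (rest.map q) (by simp) _ ?_ ?_
        · have h0 : (Ideal.ofList (a :: b :: rest)).map ((Ideal.Quotient.mk (Ideal.ofList (rest.map q))).comp q) = ⊥ := by
            rw [← Ideal.map_map, hJ, Ideal.map_sup, Ideal.map_quotient_self, bot_sup_eq, Ideal.map_ofList q rest,
              Ideal.map_quotient_self]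
          obtain ⟨k, hk⟩ := sMap_factor _ _ h0
          rw [← Sieve.pullback_comp, sMap_comp]
          exact pullback_mem_of_le R _ k _ hk hZ
        · intro A₁ _ _ φ g hg he
          rw [← Sieve.pullback_comp, sMap_comp]
          refine hY A₁ (φ.comp q) g hg ?_
          rw [← Ideal.map_map, hJ, Ideal.map_sup, Ideal.map_quotient_self, bot_sup_eq, Ideal.map_ofList q rest]
          exact he
      · intro A₁ _ _ φ g₀ hg₀ he₀
        have hJ₁ : Ideal.ofList (g₀ :: rest.map φ) = (Ideal.ofList (a :: b :: rest)).map φ := by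
          rw [hJ, Ideal.map_sup, he₀, Ideal.ofList_cons, Ideal.map_ofList φ rest]
        refine ih (rest.length + 1) hn _ (g₀ :: rest.map φ) (by simp) _ ?_ ?_
        · have h0 : (Ideal.ofList (a :: b :: rest)).map
              ((Ideal.Quotient.mk (Ideal.ofList (g₀ :: rest.map φ))).comp φ) = ⊥ := by
            rw [← Ideal.map_map, ← hJ₁, Ideal.map_quotient_self]
          obtain ⟨k, hk⟩ := sMap_factor _ _ h0
          rw [← Sieve.pullback_comp, sMap_comp]
          exact pullback_mem_of_le R _ k _ hk hZ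
        · intro A₂ _ _ ψ g hg he
          rw [← Sieve.pullback_comp, sMap_comp]
          refine hY A₂ (ψ.comp φ) g hg ?_
          rw [← Ideal.map_map, ← hJ₁, he]

/-- Covering along the blow-up of an ideal. -/
theorem Hyp.mem_of_blow {A : Type u} [CommRing A] [IsNoetherianRing A] (J : Ideal A)
    (R : Sieve (Spec (CommRingCat.of A))) (hZ : R.pullback (sMap (Ideal.Quotient.mk J)) ∈ K _)
    (hY : ∀ (A₁ : Type u) [CommRing A₁] [IsNoetherianRing A₁] (φ : A →+* A₁) (g : A₁), g ∈ nonZeroDivisors A₁ →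
      J.map φ = Ideal.span {g} → R.pullback (sMap φ) ∈ K _) : R ∈ K _ := by
  obtain ⟨s, hs⟩ := IsNoetherian.noetherian J
  have e : Ideal.ofList s.toList = J := by
    simpa [Ideal.ofList] using hs
  subst e
  exact hK.mem_of_blow_list _ A _ le_rfl R hZ hY

/-- Noetherian induction: it is enough to cover, over every integral quotient, away from a nonzero ideal. -/
theorem Hyp.mem_of_forall_prime {A : Type u} [CommRing A] [IsNoetherianRing A] (R : Sieve (Spec (CommRingCat.of A)))
    (h : ∀ (P : Ideal A) [P.IsPrime], ∃ J : Ideal (A ⧸ P), J ≠ ⊥ ∧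
      ∀ (A₁ : Type u) [CommRing A₁] [IsNoetherianRing A₁] (φ : A ⧸ P →+* A₁) (g : A₁), g ∈ nonZeroDivisors A₁ →
        J.map φ = Ideal.span {g} → R.pullback (sMap (φ.comp (Ideal.Quotient.mk P))) ∈ K _) : R ∈ K _ := by
  suffices H : ∀ I : Ideal A, R.pullback (sMap (Ideal.Quotient.mk I)) ∈ K _ by
    obtain ⟨k, hk⟩ := sMap_factor (⊥ : Ideal A) (RingHom.id A) (Ideal.map_id _)
    have := pullback_mem_of_le R _ k (𝟙 _) (hk.trans (by simp [sMap])) (H ⊥)
    rwa [Sieve.pullback_id] at this
  intro I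
  induction I using IsNoetherian.induction with
  | _ I ih =>
    have hI : ∀ c : A, c ∉ I → ∀ {T : Scheme.{u}} (t : T ⟶ Spec (CommRingCat.of (A ⧸ (I ⊔ Ideal.span {c})))),
        R.pullback (t ≫ sMap (Ideal.Quotient.mk (I ⊔ Ideal.span {c}))) ∈ K T := fun c hc {T} t =>
      pullback_mem_of_le R _ t _ rfl (ih _ (lt_of_le_of_ne le_sup_left fun e =>
        hc (e ▸ le_sup_right (a := I) (Ideal.mem_span_singleton_self c))))
    by_cases hP : Ideal.IsPrime I
    · haveI := hP
      obtain ⟨J, hJ, hJY⟩ := h I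
      refine hK.mem_of_blow J _ ?_ fun A₁ _ _ φ g hg he => ?_
      · obtain ⟨j, hjJ, hj0⟩ := Submodule.exists_mem_ne_zero_of_ne_bot hJ
        obtain ⟨c, rfl⟩ := Ideal.Quotient.mk_surjective j
        have hc : c ∉ I := fun hc => hj0 (Ideal.Quotient.eq_zero_iff_mem.mpr hc)
        rw [← Sieve.pullback_comp, sMap_comp]
        refine K.superset_covering (le_of_eq rfl) ?_
        have hle : I ⊔ Ideal.span {c} ≤ Ideal.comap (Ideal.Quotient.mk I) J :=
          sup_le (fun x hx => by rw [Ideal.mem_comap, Ideal.Quotient.eq_zero_iff_mem.mpr hx]; exact zero_mem _)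
            ((Ideal.span_singleton_le_iff_mem _).mpr hjJ)
        have h0 : Ideal.map ((Ideal.Quotient.mk J).comp (Ideal.Quotient.mk I)) (I ⊔ Ideal.span {c}) = ⊥ := by
          rw [← Ideal.map_map, eq_bot_iff, ← Ideal.map_quotient_self J]
          exact Ideal.map_mono (Ideal.map_le_iff_le_comap.mpr hle)
        obtain ⟨k, hk⟩ := sMap_factor _ _ h0
        rw [← hk]
        exact hI c hc k
      · rw [← Sieve.pullback_comp, sMap_comp]
        exact hJY A₁ φ g hg he
    · by_cases htop : I = ⊤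
      · haveI : Subsingleton (A ⧸ I) := Ideal.Quotient.subsingleton_iff.mpr htop
        haveI : IsEmpty (Spec (CommRingCat.of (A ⧸ I))) := inferInstanceAs (IsEmpty (PrimeSpectrum (A ⧸ I)))
        exact hK.mem_of_isEmpty _
      rw [Ideal.isPrime_iff] at hP
      push Not at hP
      obtain ⟨a, b, hab, ha, hb⟩ := hP htop
      let q := Ideal.Quotient.mk I
      refine hK.mem_of_blow (Ideal.span {q a}) _ ?_ fun A₁ _ _ φ g hg he => ?_
      · have h0 : Ideal.map ((Ideal.Quotient.mk (Ideal.span {q a})).comp q) (I ⊔ Ideal.span {a}) = ⊥ := by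
          rw [← Ideal.map_map, Ideal.map_sup, Ideal.map_quotient_self, bot_sup_eq, Ideal.map_span q,
            Set.image_singleton, Ideal.map_quotient_self]
        obtain ⟨k, hk⟩ := sMap_factor _ _ h0
        rw [← Sieve.pullback_comp, sMap_comp, ← hk]
        exact hI a ha k
      · have hb0 : φ (q b) = 0 := by
          rw [Ideal.map_span, Set.image_singleton] at he
          obtain ⟨r, hr⟩ := Ideal.mem_span_singleton.mp (he ▸ Ideal.mem_span_singleton_self g : g ∈ Ideal.span {φ (q a)})
          refine hg.1 _ ?_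
          rw [hr, mul_right_comm, ← map_mul, ← map_mul, Ideal.Quotient.eq_zero_iff_mem.mpr hab, map_zero, zero_mul]
        have h0 : Ideal.map (φ.comp q) (I ⊔ Ideal.span {b}) = ⊥ := by
          rw [← Ideal.map_map, Ideal.map_sup, Ideal.map_quotient_self, bot_sup_eq, Ideal.map_span q,
            Set.image_singleton, Ideal.map_span, Set.image_singleton, hb0]
          simp
        obtain ⟨k, hk⟩ := sMap_factor _ _ h0
        rw [← Sieve.pullback_comp, sMap_comp, ← hk]
        exact hI b hb k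

end Groth.L23.HFlat

end
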