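import Mathlib.LinearAlgebra.Matrix.Adjugate
import Mathlib.LinearAlgebra.LinearIndependent.Lemmas
import Mathlib.LinearAlgebra.Basis.Basic
import Mathlib.RingTheory.Flat.Basic
import Mathlib.RingTheory.TensorProduct.Finite
import Mathlib.RingTheory.Finiteness.Basic
import Mathlib.RingTheory.Spectrum.Prime.Topology

/-!
# A finite algebra over a domain becomes flat after making one ideal invertible
-/

set_option autoImplicit false
set_option linter.style.haveILetI false
set_option linter.unusedSectionVars false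

universe u

open scoped TensorProduct Matrix

noncomputable section

namespace Groth.L23.HFlat

theorem exists_coords {A M : Type u} [CommRing A] [IsDomain A] [AddCommGroup M] [Module A M] {ι : Type} [Finite ι]
    (v : ι → M) (hv : Submodule.span A (Set.range v) = ⊤) :
    ∃ (r : ℕ) (σ : Fin r → ι) (δ : A) (Φ : M →ₗ[A] (Fin r → A)), δ ≠ 0 ∧
      (∀ b, δ • b = ∑ k, Φ b k • v (σ k)) ∧ (∀ k, Φ (v (σ k)) = δ • Pi.single k 1) := by
  classical
  have := Fintype.ofFinite ι
  obtain ⟨s, hs, hmax⟩ := exists_maximal_linearIndepOn A v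
  choose! a ha hmem using hmax
  let δ := ∏ i ∈ Finset.univ.filter (fun i => i ∉ s), a i
  have hδ : δ ≠ 0 := Finset.prod_ne_zero_iff.mpr fun i hi => ha i (Finset.mem_filter.mp hi).2
  obtain ⟨r, ⟨σ⟩⟩ : ∃ r, Nonempty (Fin r ≃ s) := ⟨_, ⟨(Fintype.equivFin s).symm⟩⟩
  let e : Fin r → M := fun k => v (σ k)
  have he : LinearIndependent A e := hs.comp σ σ.injective
  have hspan : ∀ b, δ • b ∈ Submodule.span A (Set.range e) := by
    intro b
    have hre : Set.range e = v '' s := by
      ext x
      constructor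
      · rintro ⟨k, rfl⟩; exact ⟨σ k, (σ k).2, rfl⟩
      · rintro ⟨i, hi, rfl⟩; exact ⟨σ.symm ⟨i, hi⟩, by simp [e]⟩
    rw [hre]
    have hb : b ∈ Submodule.span A (Set.range v) := hv ▸ Submodule.mem_top
    induction hb using Submodule.span_induction with
    | mem x hx =>
      obtain ⟨i, rfl⟩ := hx
      by_cases hi : i ∈ s
      · exact Submodule.smul_mem _ _ (Submodule.subset_span ⟨i, hi, rfl⟩)
      · have h1 : δ = (∏ j ∈ (Finset.univ.filter (fun j => j ∉ s)).erase i, a j) * a i :=
          (Finset.prod_erase_mul _ _ (Finset.mem_filter.mpr ⟨Finset.mem_univ i, hi⟩)).symm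
        rw [h1, mul_smul]
        exact Submodule.smul_mem _ _ (hmem i hi)
    | zero => simp
    | add x y _ _ hx hy => rw [smul_add]; exact add_mem hx hy
    | smul c x _ hx => rw [smul_comm]; exact Submodule.smul_mem _ c hx
  let B := Module.Basis.span he
  let Φ : M →ₗ[A] (Fin r → A) := B.equivFun.toLinearMap ∘ₗ ((δ • (LinearMap.id : M →ₗ[A] M)).codRestrict _ hspan)
  have hΦ : ∀ b, δ • b = ∑ k, Φ b k • e k := by
    intro b
    have h1 := congrArg Subtype.val (B.sum_equivFun ((δ • (LinearMap.id : M →ₗ[A] M)).codRestrict _ hspan b))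
    simpa [Φ, B, Submodule.coe_sum, Module.Basis.span_apply] using h1.symm
  refine ⟨r, fun k => σ k, δ, Φ, hδ, hΦ, fun k => ?_⟩
  have h2 := hΦ (e k)
  have h3 : ∑ j, (δ • Pi.single k (1 : A) : Fin r → A) j • e j = δ • e k := by
    simp [Pi.single_apply]
  exact funext fun j => (Fintype.linearIndependent_iff.mp he (fun j => Φ (e k) j - (δ • Pi.single k (1 : A) : Fin r → A) j)
    (by simp only [sub_smul, Finset.sum_sub_distrib, h3, ← h2, sub_self]) j |> sub_eq_zero.mp)

/-- After making the ideal of scaled Plücker coordinates invertible, a finite injective algebra over a domain maps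
to a finite flat algebra with surjective spectrum. -/
theorem exists_flattening_ideal {A B : Type u} [CommRing A] [IsDomain A] [CommRing B] [IsDomain B] [Algebra A B]
    [Module.Finite A B] (hinj : Function.Injective (algebraMap A B)) :
    ∃ J : Ideal A, J ≠ ⊥ ∧ ∀ (A₁ : Type u) [CommRing A₁] [Algebra A A₁] (g : A₁), g ∈ nonZeroDivisors A₁ →
      J.map (algebraMap A A₁) = Ideal.span {g} →
        ∃ (B₁ : Type u) (_ : CommRing B₁) (_ : Algebra A₁ B₁) (ψ : B →+* B₁), Module.Finite A₁ B₁ ∧
          Module.Projective A₁ B₁ ∧ Function.Surjective (PrimeSpectrum.comap (algebraMap A₁ B₁)) ∧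
          ψ.comp (algebraMap A B) = (algebraMap A₁ B₁).comp (algebraMap A A₁) := by
  classical
  obtain ⟨N, v, hv⟩ := Module.Finite.exists_fin (R := A) (M := B)
  obtain ⟨r, σ, δ, Φ, hδ, hΦ, hΦe⟩ := exists_coords v hv
  have hr : Nonempty (Fin r) := by
    by_contra h
    haveI := not_nonempty_iff.mp h
    have h1 := hΦ 1
    rw [Finset.sum_of_isEmpty, Algebra.smul_def, mul_one] at h1
    exact hδ (hinj (h1.trans (map_zero _).symm))
  let Ms : (Fin r → Fin N) → Matrix (Fin r) (Fin r) A := fun S => Matrix.of fun i k => Φ (v (S k)) i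
  let J : Ideal A := Ideal.span (Set.range fun S => δ * (Ms S).det)
  refine ⟨J, ?_, ?_⟩
  · intro h
    have h1 : δ * (Ms σ).det ∈ (⊥ : Ideal A) := h ▸ Ideal.subset_span ⟨σ, rfl⟩
    have h2 : Ms σ = δ • (1 : Matrix (Fin r) (Fin r) A) := by
      ext i k; simp [Ms, hΦe, Matrix.one_apply, Pi.single_apply]
    rw [Ideal.mem_bot, h2, Matrix.det_smul, Matrix.det_one, mul_one] at h1
    exact mul_ne_zero hδ (pow_ne_zero _ hδ) h1
  intro A₁ _ _ g hg he
  let φ := algebraMap A A₁
  let W : (Fin r → Fin N) → Matrix (Fin r) (Fin r) A₁ := fun S => (Ms S).map φ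
  have hW : ∀ S, φ δ * (W S).det ∈ Ideal.span {g} := fun S => by
    rw [← he, show (W S).det = φ (Ms S).det from (RingHom.map_det φ _).symm, ← map_mul]
    exact Ideal.mem_map_of_mem _ (Ideal.subset_span ⟨S, rfl⟩)
  choose u hu using fun S => Ideal.mem_span_singleton'.mp (hW S)
  -- the coefficients generate the unit ideal
  obtain ⟨c, hc⟩ : ∃ c : (Fin r → Fin N) → A₁, ∑ S, c S * u S = 1 := by
    have hgJ : g ∈ Ideal.span (Set.range fun S => φ δ * (W S).det) := by
      have : J.map φ = Ideal.span (Set.range fun S => φ δ * (W S).det) := by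
        rw [Ideal.map_span, ← Set.range_comp]
        congr 2
        funext S
        show φ (δ * _) = _
        rw [map_mul, RingHom.map_det]
        rfl
      rw [← this, he]
      exact Ideal.mem_span_singleton_self g
    obtain ⟨c, hc⟩ := (Submodule.mem_span_range_iff_exists_fun A₁).mp hgJ
    refine ⟨c, sub_eq_zero.mp (hg.1 _ ?_)⟩
    rw [mul_sub, mul_one, Finset.mul_sum, sub_eq_zero]
    refine Eq.trans (Finset.sum_congr rfl fun S _ => ?_) hc
    rw [smul_eq_mul, ← hu S, ← mul_assoc, mul_comm g]; ring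
  have hδ₁ : φ δ ∈ nonZeroDivisors A₁ := by
    rw [mem_nonZeroDivisors_iff_right]
    intro x hx
    refine hg.2 x ?_
    have : g = φ δ * ∑ S, c S * (W S).det := by
      rw [Finset.mul_sum]
      calc g = (∑ S, c S * u S) * g := by rw [hc, one_mul]
        _ = _ := by
          rw [Finset.sum_mul]
          exact Finset.sum_congr rfl fun S _ => by rw [mul_assoc, hu, mul_left_comm]
    rw [this, ← mul_assoc, hx, zero_mul]
  -- the lattice
  let Φ₁ : A₁ ⊗[A] B →ₗ[A₁] (Fin r → A₁) :=
    TensorProduct.AlgebraTensorModule.lift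
      ((LinearMap.toSpanSingleton A₁ (B →ₗ[A] (Fin r → A₁))
        ((Algebra.linearMap A A₁).compLeft (Fin r) ∘ₗ Φ)))
  have hΦ₁ : ∀ (a : A₁) (b : B), Φ₁ (a ⊗ₜ b) = a • fun i => φ (Φ b i) := fun a b => rfl
  let L := LinearMap.range Φ₁
  let w : (Fin r → Fin N) → Fin r → L := fun S k => ⟨Φ₁ (1 ⊗ₜ v (S k)), ⟨_, rfl⟩⟩
  -- kernel
  have hker : ∀ z, δ • z = ∑ k, Φ₁ z k • ((1 : A₁) ⊗ₜ[A] v (σ k)) := by
    intro z
    induction z using TensorProduct.induction_on with
    | zero => simp
    | add x y hx hy => rw [smul_add, hx, hy, map_add]; simp [add_smul, Finset.sum_add_distrib]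
    | tmul a b =>
      rw [← TensorProduct.tmul_smul, hΦ, TensorProduct.tmul_sum]
      refine Finset.sum_congr rfl fun k _ => ?_
      rw [hΦ₁, TensorProduct.tmul_smul, TensorProduct.smul_tmul', TensorProduct.smul_tmul', Pi.smul_apply,
        smul_eq_mul, Algebra.smul_def, smul_eq_mul, mul_one, mul_comm]
  let Kr : Ideal (A₁ ⊗[A] B) :=
    { carrier := {z | δ • z = 0}
      add_mem' := fun {x y} hx hy => by simp only [Set.mem_ofPred_eq] at hx hy ⊢; rw [smul_add, hx, hy, add_zero]
      zero_mem' := smul_zero _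
      smul_mem' := fun c z hz => by
        simp only [Set.mem_ofPred_eq, smul_eq_mul] at hz ⊢
        rw [← mul_smul_comm, hz, mul_zero] }
  have hKr : ∀ z, z ∈ Kr ↔ Φ₁ z = 0 := by
    refine fun z => ⟨fun h => funext fun i => hδ₁.2 _ ?_, fun h => ?_⟩
    · have h1 := congrArg Φ₁ (h : δ • z = 0)
      rw [LinearMap.map_smul_of_tower, map_zero] at h1
      have h2 := congrFun h1 i
      rwa [Pi.smul_apply, Algebra.smul_def, mul_comm] at h2
      
    · show δ • z = 0
      rw [hker, h]; simp
  let B₁ := (A₁ ⊗[A] B) ⧸ Kr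
  let q : (A₁ ⊗[A] B) →ₗ[A₁] B₁ := (Ideal.Quotient.mkₐ A₁ Kr).toLinearMap
  have hq : LinearMap.ker q = LinearMap.ker Φ₁ := by
    ext z; rw [LinearMap.mem_ker, LinearMap.mem_ker, ← hKr]; exact Ideal.Quotient.eq_zero_iff_mem
  let eqv : B₁ ≃ₗ[A₁] L :=
    (q.quotKerEquivOfSurjective Ideal.Quotient.mk_surjective).symm ≪≫ₗ Submodule.quotEquivOfEq _ _ hq ≪≫ₗ
      Φ₁.quotKerEquivRange
  -- Cramer coordinates
  have hdiv : ∀ S (y : L) k, φ δ * Matrix.cramer (W S) (y : Fin r → A₁) k ∈ Ideal.span {g} := by
    rintro S ⟨_, z, rfl⟩ k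
    dsimp only
    have hlin : ∀ b : B, φ δ * Matrix.cramer (W S) (Φ₁ (1 ⊗ₜ b)) k ∈ Ideal.span {g} := by
      intro b
      have hb : b ∈ Submodule.span A (Set.range v) := hv ▸ Submodule.mem_top
      induction hb using Submodule.span_induction with
      | mem x hx =>
        obtain ⟨l, rfl⟩ := hx
        have e1 : (W S).updateCol k (Φ₁ (1 ⊗ₜ v l)) = W (Function.update S k l) := by
          ext i j
          rw [hΦ₁, one_smul, Matrix.updateCol_apply]
          by_cases h : j = k
          · subst h; simp [W, Ms]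
          · simp [W, Ms, h]
        rw [Matrix.cramer_apply, e1]
        exact hW _
      | zero => simp
      | add x y _ _ hx hy =>
        rw [TensorProduct.tmul_add, map_add, map_add, Pi.add_apply, mul_add]
        exact add_mem hx hy
      | smul a x _ hx =>
        rw [TensorProduct.tmul_smul, ← algebraMap_smul A₁, map_smul, map_smul, Pi.smul_apply, smul_eq_mul,
          mul_left_comm]
        exact Ideal.mul_mem_left _ _ hx
    induction z using TensorProduct.induction_on with
    | zero => simp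
    | add x y hx hy => rw [map_add, map_add, Pi.add_apply, mul_add]; exact add_mem hx hy
    | tmul a b =>
      rw [show a ⊗ₜ[A] b = a • ((1 : A₁) ⊗ₜ[A] b) by rw [TensorProduct.smul_tmul', smul_eq_mul, mul_one],
        map_smul, map_smul, Pi.smul_apply, smul_eq_mul, mul_left_comm]
      exact Ideal.mul_mem_left _ _ (hlin b)
  choose co hco using fun S y k => Ideal.mem_span_singleton'.mp (hdiv S y k)
  have hcancel : ∀ x y : A₁, x * g = y * g → x = y := fun x y h =>
    sub_eq_zero.mp (hg.2 _ (by rw [sub_mul, h, sub_self]))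
  let coL : (Fin r → Fin N) → L →ₗ[A₁] (Fin r → A₁) := fun S =>
    { toFun := co S
      map_add' := fun y y' => funext fun k => hcancel _ _ (by
        rw [Pi.add_apply, add_mul, hco, hco, hco, Submodule.coe_add, map_add, Pi.add_apply, mul_add])
      map_smul' := fun a y => funext fun k => hcancel _ _ (by
        rw [RingHom.id_apply, Pi.smul_apply, smul_eq_mul, mul_assoc, hco, hco, Submodule.coe_smul, map_smul,
          Pi.smul_apply, smul_eq_mul, mul_left_comm]) }
  have hrec : ∀ S (y : L), ∑ k, co S y k • w S k = u S • y := by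
    intro S y
    refine Subtype.ext (funext fun i => hcancel _ _ ?_)
    have h1 := congrFun (Matrix.mulVec_cramer (W S) (y : Fin r → A₁)) i
    rw [Matrix.mulVec, dotProduct] at h1
    simp only [Submodule.coe_sum, Submodule.coe_smul, Finset.sum_apply, Pi.smul_apply, smul_eq_mul, Finset.sum_mul,
      mul_right_comm (u S) _ g, hu]
    have hw : ∀ k, (w S k : Fin r → A₁) i = W S i k := fun k => by simp [w, hΦ₁, W, Ms]
    calc ∑ k, co S y k * (w S k : Fin r → A₁) i * g = φ δ * ∑ k, W S i k * Matrix.cramer (W S) (y : Fin r → A₁) k := by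
          rw [Finset.mul_sum]
          exact Finset.sum_congr rfl fun k _ => by rw [hw, mul_right_comm, hco]; ring
      _ = _ := by rw [h1, Pi.smul_apply, smul_eq_mul]; ring
  let toF : L →ₗ[A₁] ((Fin r → Fin N) → Fin r → A₁) := LinearMap.pi fun S => c S • coL S
  let ofF : ((Fin r → Fin N) → Fin r → A₁) →ₗ[A₁] L :=
    ∑ S : Fin r → Fin N, ∑ k : Fin r,
      ((LinearMap.proj k : (Fin r → A₁) →ₗ[A₁] A₁) ∘ₗ
        (LinearMap.proj S : ((Fin r → Fin N) → Fin r → A₁) →ₗ[A₁] (Fin r → A₁))).smulRight (w S k)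
  have hsplit : ofF ∘ₗ toF = LinearMap.id := by
    refine LinearMap.ext fun y => ?_
    simp only [ofF, toF, LinearMap.comp_apply, LinearMap.sum_apply, LinearMap.smulRight_apply, LinearMap.proj_apply,
      LinearMap.pi_apply, LinearMap.smul_apply, Pi.smul_apply, smul_eq_mul, LinearMap.id_apply, mul_smul]
    simp only [← Finset.smul_sum]
    show ∑ S, c S • ∑ k, co S y k • w S k = y
    simp only [hrec, smul_smul, ← Finset.sum_smul, hc, one_smul]
  haveI : Module.Projective A₁ L := Module.Projective.of_split toF ofF hsplit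
  haveI : Module.Projective A₁ B₁ := Module.Projective.of_equiv eqv.symm
  refine ⟨B₁, inferInstance, inferInstance,
    (Ideal.Quotient.mk Kr).comp Algebra.TensorProduct.includeRight.toRingHom, inferInstance, inferInstance, ?_, ?_⟩
  · refine RingHom.IsIntegral.comap_surjective (Algebra.IsIntegral.isIntegral (R := A₁) (A := B₁)) ?_
    intro x y hxy
    refine sub_eq_zero.mp ?_
    generalize hz : x - y = z
    have hz0 : algebraMap A₁ B₁ z = 0 := by rw [← hz, map_sub, hxy, sub_self]
    have hkill : ∀ S k, z • (w S k : Fin r → A₁) = 0 := by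
      intro S k
      show z • Φ₁ _ = 0
      rw [← map_smul, ← hKr, ← Ideal.Quotient.eq_zero_iff_mem]
      show q (z • _) = 0
      rw [map_smul]
      refine (Algebra.smul_def (A := B₁) z _).trans ?_
      rw [hz0, zero_mul]
    have hzu : ∀ S, z * u S = 0 := by
      intro S
      refine hcancel _ _ ?_
      obtain ⟨i⟩ := hr
      have hdet : z * (W S).det = 0 := by
        have h1 := congrFun (congrFun (Matrix.mul_adjugate (W S)) i) i
        simp only [Matrix.smul_apply, Matrix.one_apply_eq, smul_eq_mul, mul_one, Matrix.mul_apply] at h1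
        rw [← h1, Finset.mul_sum]
        refine Finset.sum_eq_zero fun k _ => ?_
        have h2 : z * W S i k = 0 := by
          have h3 := congrFun (hkill S k) i
          simpa [w, hΦ₁, W, Ms] using h3
        rw [← mul_assoc, h2, zero_mul]
      rw [mul_assoc, hu, mul_left_comm, hdet, mul_zero, zero_mul]
    calc z = z * ∑ S, c S * u S := by rw [hc, mul_one]
      _ = 0 := by rw [Finset.mul_sum]; exact Finset.sum_eq_zero fun S _ => by rw [mul_left_comm, hzu, mul_zero]
  · ext a
    show Ideal.Quotient.mk Kr ((1 : A₁) ⊗ₜ[A] algebraMap A B a) = Ideal.Quotient.mk Kr (algebraMap A A₁ a ⊗ₜ[A] (1 : B))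
    rw [Algebra.algebraMap_eq_smul_one, Algebra.algebraMap_eq_smul_one, TensorProduct.tmul_smul, TensorProduct.smul_tmul']

end Groth.L23.HFlat

end
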