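import Groth.Agent.L23.HFlat.Basic
import Groth.Agent.L23.HFlat.Lattice
import Mathlib.AlgebraicGeometry.Morphisms.Finite
import Mathlib.AlgebraicGeometry.Morphisms.Flat

/-!
# Finite surjective morphisms of Noetherian affine schemes are covering
-/

set_option autoImplicit false
set_option linter.style.haveILetI false
set_option linter.unusedSectionVars false
set_option backward.isDefEq.respectTransparency.types false

universe u

open CategoryTheory AlgebraicGeometry

noncomputable section

namespace Groth.L23.HFlat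

variable {K : GrothendieckTopology Scheme.{u}} (hK : Hyp K)
include hK

theorem Hyp.mem_finite {A B : Type u} [CommRing A] [IsNoetherianRing A] [CommRing B] (φ : A →+* B) (hφ : φ.Finite)
    (hs : Function.Surjective (PrimeSpectrum.comap φ)) : oneSieve (sMap φ) ∈ K _ := by
  refine hK.mem_of_forall_prime _ fun P hP => ?_
  obtain ⟨Q, hQ⟩ := hs ⟨P, hP⟩
  have hQP : Q.asIdeal.comap φ = P := congrArg PrimeSpectrum.asIdeal hQ
  let φ' : A ⧸ P →+* B ⧸ Q.asIdeal := Ideal.quotientMap Q.asIdeal φ hQP.ge
  letI := φ'.toAlgebra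
  haveI : Module.Finite (A ⧸ P) (B ⧸ Q.asIdeal) := by
    refine RingHom.Finite.of_comp_finite (f := Ideal.Quotient.mk P) (g := φ') ?_
    rw [Ideal.quotientMap_comp_mk]
    exact RingHom.Finite.comp (RingHom.Finite.of_surjective _ Ideal.Quotient.mk_surjective) hφ
  have hinj : Function.Injective (algebraMap (A ⧸ P) (B ⧸ Q.asIdeal)) :=
    Ideal.quotientMap_injective' (h := hQP.le)
  obtain ⟨J, hJ, hflat⟩ := exists_flattening_ideal hinj
  refine ⟨J, hJ, fun A₁ _ _ χ g hg he => ?_⟩
  letI := χ.toAlgebra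
  obtain ⟨B₁, _, _, ψ, hfin, hproj, hsurj, hcomm⟩ := hflat A₁ g hg he
  let f₁ := sMap (algebraMap A₁ B₁)
  haveI : IsFinite f₁ := (IsFinite.SpecMap_iff _).mpr (RingHom.finite_algebraMap.mpr hfin)
  haveI : Surjective f₁ := ⟨hsurj⟩
  haveI : Flat f₁ :=
    (HasRingHomProperty.Spec_iff (P := @Flat)).2 (RingHom.flat_algebraMap_iff.mpr inferInstance)
  haveI : IsLocallyNoetherian (Spec (CommRingCat.of A₁)) := by
    haveI : IsNoetherianRing (CommRingCat.of A₁) := ‹IsNoetherianRing A₁›
    infer_instance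
  haveI : LocallyOfFinitePresentation f₁ := LocallyOfFinitePresentation.iff_locallyOfFiniteType.2 inferInstance
  refine K.superset_covering ?_ (hK.flat f₁ inferInstance inferInstance inferInstance inferInstance inferInstance)
  rintro W k ⟨l, rfl⟩
  refine ⟨l ≫ sMap (ψ.comp (Ideal.Quotient.mk Q.asIdeal)), ?_⟩
  rw [Category.assoc, Category.assoc, sMap_comp, sMap_comp]
  congr 2
  rw [← RingHom.comp_assoc]
  calc (ψ.comp (Ideal.Quotient.mk Q.asIdeal)).comp φ = (ψ.comp φ').comp (Ideal.Quotient.mk P) := by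
        rw [RingHom.comp_assoc, RingHom.comp_assoc, ← Ideal.quotientMap_comp_mk hQP.ge]
    _ = _ := by rw [show ψ.comp φ' = (algebraMap A₁ B₁).comp χ from hcomm]

end Groth.L23.HFlat

end
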